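import Cfsg.Agent.TwMult.E6.PrimePart
import Cfsg.Agent.ChevMult.FinishCyclic
import Cfsg.Agent.ChevMult.CenterE6
import Cfsg.Agent.Chev.CoverTorus

/-!
A stem extension of `²E₆(q)` inside the cover of `E₆(q²)`.
-/

set_option autoImplicit false
set_option linter.unusedSectionVars false

namespace CfsgLib.Chev.E6Tw

open Cfsg.Lie Tab
open scoped MatrixGroups commutatorElement

universe u

variable {K : Type u} [Field K] [Fintype K] {q : ℕ}

/-- A number as an index of a fundamental root. -/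
def ix (n : ℕ) (h : n < chevE6.rank := by decide) : Fin chevE6.rank := ⟨n, h⟩

namespace Mult

theorem orth_pairs : ∀ ab ∈ [((0 : Fin 6), (5 : Fin 6)), (2, 4)],
    ∀ r ∈ [chevE6.simple ab.1, negR chevE6 (chevE6.simple ab.1)],
    ∀ s ∈ [chevE6.simple ab.2, negR chevE6 (chevE6.simple ab.2)],
      r < chevE6.nroots ∧ s < chevE6.nroots ∧ s ≠ r ∧ s ≠ negR chevE6 r ∧
        (E6Data.tab.commT r s).isEmpty = true := by
  decide +kernel

theorem zeta_exponents : ∀ j : Fin 6,
    (3 : ℤ) ∣ E6Data.tab.cart 0 (chevE6.simple j) + 2 * E6Data.tab.cart 5 (chevE6.simple j) +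
      (2 * E6Data.tab.cart 2 (chevE6.simple j) + E6Data.tab.cart 4 (chevE6.simple j)) := by
  decide +kernel

end Mult

namespace Ctx

variable (C : Ctx K q)
include C

/-- The preimage of the twisted group in the cover. -/
noncomputable def coverPre (C : Ctx K q) : Subgroup (chevE6.SteinbergCover K) :=
  C.Z.G1.comap (good_E6.coverData K).θ

/-- The stem cover. -/
noncomputable def cover (C : Ctx K q) : Subgroup (chevE6.SteinbergCover K) :=
  ⁅C.coverPre, C.coverPre⁆

theorem cover_le : C.cover ≤ C.coverPre :=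
  Subgroup.commutator_le.2 fun _ ha _ hb => by
    rw [commutatorElement_def]
    exact mul_mem (mul_mem (mul_mem ha hb) (inv_mem ha)) (inv_mem hb)

/-- The map of the stem cover to the twisted group. -/
noncomputable def coverHom (C : Ctx K q) : C.cover →* C.Z.G1 :=
  ((good_E6.coverData K).θ.comp C.cover.subtype).codRestrict C.Z.G1 fun g => C.cover_le g.2

theorem coe_coverHom (g : C.cover) :
    (C.coverHom g : GL chevE6.Idx K) = (good_E6.coverData K).θ g.1 := rfl

theorem coverData_surj {g : GL chevE6.Idx K} (hg : g ∈ chevE6.group K) :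
    ∃ e, (good_E6.coverData K).θ e = g := by
  obtain ⟨e, he⟩ := ChevMult.scθ_surjective good_E6 (F := K) ⟨g, hg⟩
  exact ⟨e, congrArg Subtype.val he⟩

theorem map_coverPre : C.coverPre.map (good_E6.coverData K).θ = C.Z.G1 := by
  refine le_antisymm (Subgroup.map_comap_le _ _) fun g hg => ?_
  obtain ⟨e, rfl⟩ := C.coverData_surj ((C.Φ.mem_fix).1 (C.Z.le_fix hg)).1
  exact ⟨e, hg, rfl⟩

theorem map_cover : C.cover.map (good_E6.coverData K).θ = C.Z.G1 := by
  rw [cover, Subgroup.map_commutator, C.map_coverPre]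
  have := congrArg (Subgroup.map C.Z.G1.subtype) C.commutator_top
  rw [commutator_def, Subgroup.map_commutator, ← MonoidHom.range_eq_map,
    Subgroup.range_subtype] at this
  exact this

theorem coverHom_surjective : Function.Surjective C.coverHom := by
  rintro ⟨g, hg⟩
  rw [← C.map_cover] at hg
  obtain ⟨e, he, rfl⟩ := hg
  exact ⟨⟨e, he⟩, Subtype.ext rfl⟩

theorem θ_ker_le_center :
    (good_E6.coverData K).θ.ker ≤ Subgroup.center (chevE6.SteinbergCover K) :=
  (good_E6.coverData K).ker_le_center ⟨_, wits_E6⟩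

theorem mem_θ_ker {x : chevE6.SteinbergCover K} :
    x ∈ (good_E6.coverData K).θ.ker ↔ x ∈ (good_E6.scθ K).ker := by
  rw [MonoidHom.mem_ker, MonoidHom.mem_ker, Subtype.ext_iff]; rfl

theorem exists_split {p : chevE6.SteinbergCover K} (hp : p ∈ C.coverPre) :
    ∃ g ∈ C.cover, ∃ z ∈ (good_E6.coverData K).θ.ker, p = g * z := by
  obtain ⟨g, hg, e⟩ := C.map_cover.ge hp
  refine ⟨g, hg, g⁻¹ * p, ?_, by group⟩
  rw [MonoidHom.mem_ker, map_mul, map_inv, e, inv_mul_cancel]

theorem cover_perfect : commutator C.cover = ⊤ := by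
  have key : C.cover ≤ ⁅C.cover, C.cover⁆ := by
    refine Subgroup.commutator_le.2 fun a ha b hb => ?_
    obtain ⟨g, hg, z, hz, rfl⟩ := C.exists_split ha
    obtain ⟨g', hg', z', hz', rfl⟩ := C.exists_split hb
    have c := Subgroup.mem_center_iff.1 (C.θ_ker_le_center hz)
    have c' := Subgroup.mem_center_iff.1 (C.θ_ker_le_center hz')
    have : ⁅g * z, g' * z'⁆ = ⁅g, g'⁆ := by
      rw [commutatorElement_def, commutatorElement_def]
      calc g * z * (g' * z') * (g * z)⁻¹ * (g' * z')⁻¹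
          = g * (z * g') * (z' * z⁻¹) * g⁻¹ * z'⁻¹ * g'⁻¹ := by group
        _ = g * (g' * z) * (z⁻¹ * z') * g⁻¹ * z'⁻¹ * g'⁻¹ := by rw [c, (c' z⁻¹)]
        _ = g * g' * (z' * g⁻¹) * z'⁻¹ * g'⁻¹ := by group
        _ = g * g' * g⁻¹ * g'⁻¹ := by rw [← c']; group
    rw [this]
    exact Subgroup.commutator_mem_commutator hg hg'
  refine Subgroup.map_injective (f := C.cover.subtype) Subtype.val_injective ?_
  rw [commutator_def, Subgroup.map_commutator, ← MonoidHom.range_eq_map, Subgroup.range_subtype]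
  exact le_antisymm (Subgroup.commutator_le.2 fun a ha b hb => by
    rw [commutatorElement_def]
    exact mul_mem (mul_mem (mul_mem ha hb) (inv_mem ha)) (inv_mem hb)) key

theorem isStemExtension_coverHom : Cfsg.IsStemExtension C.coverHom := by
  refine ⟨C.coverHom_surjective, fun g hg => Subgroup.mem_center_iff.2 fun h => Subtype.ext ?_,
    by rw [C.cover_perfect]; exact le_top⟩
  exact Subgroup.mem_center_iff.1
    (C.θ_ker_le_center (x := g.1) (congrArg Subtype.val (MonoidHom.mem_ker.1 hg))) h.1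

theorem finite_cover : Finite (chevE6.SteinbergCover K) ∧ IsCyclic C.coverHom.ker ∧
    ∀ z ∈ (good_E6.coverData K).θ.ker, z ^ 3 = 1 := by
  obtain ⟨e⟩ := ChevMult.scθ_ker_equiv (F := K) good_E6 good_E7 ChevMult.embE6 ⟨_, wits_E6⟩
    (by simp) ChevMult.kerE6 ChevMult.kerE6_ok
  have : Finite (good_E6.scθ K).ker := Finite.of_equiv _ e.toEquiv.symm
  refine ⟨ChevMult.finite_cover good_E6 this, ?_, fun z hz => ?_⟩
  · have hc : IsCyclic (good_E6.scθ K).ker :=
      isCyclic_of_surjective e.symm.toMonoidHom e.symm.surjective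
    let f : C.coverHom.ker →* (good_E6.scθ K).ker :=
      (C.cover.subtype.comp C.coverHom.ker.subtype).codRestrict _ fun g =>
        C.mem_θ_ker.1 (congrArg Subtype.val (MonoidHom.mem_ker.1 g.2))
    exact isCyclic_of_injective f fun a b h =>
      Subtype.ext (Subtype.ext (congrArg Subtype.val h :))
  · have h3 : ∀ u : (powMonoidHom 3 : Kˣ →* Kˣ).ker, u ^ 3 = 1 := fun u => Subtype.ext u.2
    have hz' : (⟨z, C.mem_θ_ker.1 hz⟩ : (good_E6.scθ K).ker) ^ 3 = 1 :=
      e.injective (by rw [map_pow, map_one]; exact h3 _)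
    exact congrArg Subtype.val hz'

/-- A product of root elements over an orbit in the cover lies in the stem cover. -/
theorem pair_mem_cover {p : ℕ} [CharP K p] [hp : Fact p.Prime] (h3 : p ≠ 3) {r s : ℕ}
    (hr : r < chevE6.nroots) (hs : s < chevE6.nroots) {t u : K}
    (hc : Commute ((good_E6.coverData K).xb r t) ((good_E6.coverData K).xb s u))
    (hG : good_E6.full.x r t * good_E6.full.x s u ∈ C.Z.G1) :
    (good_E6.coverData K).xb r t * (good_E6.coverData K).xb s u ∈ C.cover := by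
  set S := good_E6.coverData K
  have hmem : S.xb r t * S.xb s u ∈ C.coverPre := by
    rw [coverPre, Subgroup.mem_comap, map_mul, S.θ_x, S.θ_x]
    exact hG
  obtain ⟨g, hg, z, hz, e⟩ := C.exists_split hmem
  have hpow : ∀ r < chevE6.nroots, ∀ (v : K) (n : ℕ), S.xb r v ^ n = S.xb r (n * v) := by
    intro r hr v n
    induction n with
    | zero => simp [S.xb_zero hr]
    | succ n ih => rw [pow_succ, ih, S.add r hr]; congr 1; push_cast; ring
  have hz3 := C.finite_cover.2.2 z hz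
  have h9 : p ^ 2 % 3 = 1 := by
    have h0 : p % 3 ≠ 0 := fun h =>
      h3 ((Nat.prime_dvd_prime_iff_eq Nat.prime_three hp.out).1 (Nat.dvd_of_mod_eq_zero h)).symm
    rw [Nat.pow_mod]
    rcases (by omega : p % 3 = 1 ∨ p % 3 = 2) with h | h <;> rw [h] <;> rfl
  have hzp : z ^ p ^ 2 = z := by
    rw [← Nat.div_add_mod (p ^ 2) 3, h9, pow_succ, pow_mul, hz3, one_pow, one_mul]
  have h0 : (g * z) ^ p ^ 2 = 1 := by
    rw [← e, hc.mul_pow, hpow r hr, hpow s hs, Nat.cast_pow, CharP.cast_eq_zero K p]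
    simp [S.xb_zero hr, S.xb_zero hs]
  rw [Commute.mul_pow (Subgroup.mem_center_iff.1 (C.θ_ker_le_center hz) g), hzp,
    mul_eq_one_iff_inv_eq] at h0
  rw [e, ← h0]
  exact mul_mem hg (inv_mem (pow_mem hg _))

theorem commute_orth {a b : Fin chevE6.rank} (hab : (a, b) ∈ [((0 : Fin 6), (5 : Fin 6)), (2, 4)])
    {r s : ℕ} (hr : r ∈ [chevE6.simple a, negR chevE6 (chevE6.simple a)])
    (hs : s ∈ [chevE6.simple b, negR chevE6 (chevE6.simple b)]) (t u : K) :
    r < chevE6.nroots ∧ s < chevE6.nroots ∧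
      Commute ((good_E6.coverData K).xb r t) ((good_E6.coverData K).xb s u) := by
  obtain ⟨hr', hs', h1, h2, h3⟩ := Mult.orth_pairs (a, b) hab r hr s hs
  refine ⟨hr', hs', ?_⟩
  have := (good_E6.coverData K).comm r hr' s hs' h1 h2 t u
  rw [List.isEmpty_iff.1 h3] at this
  simp only [rhsWord, List.map_nil, List.prod_nil] at this
  set x := (good_E6.coverData K).xb r t
  set y := (good_E6.coverData K).xb s u
  calc x * y = x * y * 1 := (mul_one _).symm
    _ = x * y * (y⁻¹ * x⁻¹ * y * x) := by rw [this]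
    _ = y * x := by group

/-- The product of the torus elements over a short orbit lies in the stem cover. -/
theorem hb_pair_mem_cover {p : ℕ} [CharP K p] [Fact p.Prime] (h3 : p ≠ 3)
    {J : Fin orbs.length} {a b : Fin chevE6.rank} (hJ : good_E6.oJ orbs J = [a, b])
    (ha : C.Φ.ρ a = b) (hb : C.Φ.ρ b = a) (hne : a ≠ b)
    (hab : (a, b) ∈ [((0 : Fin 6), (5 : Fin 6)), (2, 4)]) (t : K) :
    (good_E6.coverData K).hb a t * (good_E6.coverData K).hb b (t ^ q) ∈ C.cover := by
  set S := good_E6.coverData K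
  have hc : ∀ {r s : ℕ}, r ∈ [chevE6.simple a, negR chevE6 (chevE6.simple a)] →
      s ∈ [chevE6.simple b, negR chevE6 (chevE6.simple b)] → ∀ t u,
      Commute (S.xb r t) (S.xb s u) := fun hr hs t u => (C.commute_orth hab hr hs t u).2.2
  have htup : ∀ v : K, C.A.Tup J fun i => if i = a then v else v ^ q := by
    intro v i hi
    rw [hJ] at hi
    simp only [List.mem_cons, List.not_mem_nil, or_false] at hi
    rcases hi with rfl | rfl
    · simp only [ha, hne.symm, if_true, if_false, C.f_simp]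
    · simp only [hb, hne.symm, if_true, if_false, C.f_simp, C.pow_qq]
  have hE : ∀ v : K, S.xb (chevE6.simple a) v * S.xb (chevE6.simple b) (v ^ q) ∈ C.cover ∧
      S.xb (negR chevE6 (chevE6.simple a)) v * S.xb (negR chevE6 (chevE6.simple b)) (v ^ q) ∈
        C.cover := by
    intro v
    obtain ⟨r1, s1, c1⟩ := C.commute_orth hab (List.mem_cons_self ..) (List.mem_cons_self ..) v
      (v ^ q)
    obtain ⟨r2, s2, c2⟩ := C.commute_orth hab (r := negR chevE6 (chevE6.simple a))
      (s := negR chevE6 (chevE6.simple b)) (by simp) (by simp) v (v ^ q)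
    refine ⟨C.pair_mem_cover h3 r1 s1 c1 ?_, C.pair_mem_cover h3 r2 s2 c2 ?_⟩
    · have := C.A.PX_mem (htup v)
      rw [Good.PX, hJ] at this
      simp [hne.symm] at this
      exact this
    · have := C.A.PN_mem (htup v)
      rw [Good.PN, hJ] at this
      simp [hne.symm] at this
      exact this
  have hn : ∀ v : K, S.nb a v * S.nb b (v ^ q) ∈ C.cover := by
    intro v
    have hv : -(v ^ q)⁻¹ = (-v⁻¹) ^ q := by
      rw [← C.hφ, ← C.hφ, map_neg, map_inv₀]
    have h := mul_mem (mul_mem (hE v).1 (hE (-v⁻¹)).2) (hE v).1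
    rw [← hv] at h
    simp only [Good.StData.nb]
    set A := S.xb (chevE6.simple a) v
    set A' := S.xb (negR chevE6 (chevE6.simple a)) (-v⁻¹)
    set B := S.xb (chevE6.simple b) (v ^ q)
    set B' := S.xb (negR chevE6 (chevE6.simple b)) (-(v ^ q)⁻¹)
    have c1 : Commute A B := hc (by simp) (by simp) _ _
    have c2 : Commute A' B := hc (by simp) (by simp) _ _
    have c3 : Commute A B' := hc (by simp) (by simp) _ _
    refine (?_ : A * A' * A * (B * B' * B) = A * B * (A' * B') * (A * B)) ▸ h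
    calc A * A' * A * (B * B' * B) = A * A' * (A * B) * B' * B := by group
      _ = A * (A' * B) * (A * B') * B := by rw [c1.eq]; group
      _ = A * (B * A') * (B' * A) * B := by rw [c2.eq, c3.eq]
      _ = _ := by group
  have h1 : (-1 : K) = (-1 : K) ^ q := by rw [← C.hφ, map_neg, map_one]
  have h := mul_mem (hn t) (hn (-1))
  rw [← h1] at h
  simp only [Good.StData.hb]
  have key : Commute (S.nb b (t ^ q)) (S.nb a (-1)) := by
    simp only [Good.StData.nb]
    refine Commute.mul_left (Commute.mul_left ?_ ?_) ?_ <;>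
      refine Commute.mul_right (Commute.mul_right ?_ ?_) ?_ <;>
      exact (hc (by simp) (by simp) _ _).symm
  rw [mul_assoc, ← mul_assoc (S.nb a (-1)), ← key.eq]
  simpa only [mul_assoc] using h

theorem exists_ker_ne_one {p : ℕ} [CharP K p] [Fact p.Prime] (h3 : p ≠ 3) (he : 3 ∣ q + 1) :
    ∃ z : C.coverHom.ker, z ≠ 1 := by
  obtain ⟨H⟩ := good_E6.exists_coverTorus (K := K) good_E7 ChevMult.embE6 ⟨_, wits_E6⟩
    ChevMult.kerE6_ok
  have h2 : 2 ≤ q := C.hq.two_le
  have hdvd : 3 ∣ Nat.card Kˣ := by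
    obtain ⟨k, hk⟩ := he
    rw [units_card C.hK, show q ^ 2 - 1 = (q + 1) * (q - 1) by rw [← Nat.sq_sub_sq, one_pow]]
    exact Dvd.dvd.mul_right ⟨k, hk⟩ _
  obtain ⟨ζ, hζ⟩ := exists_prime_orderOf_dvd_card' 3 (hp := ⟨Nat.prime_three⟩) hdvd
  have hq : ζ ^ q = ζ ^ 2 := by
    rw [← pow_mod_orderOf, hζ, show q % 3 = 2 by omega]
  have hq2 : (ζ ^ 2) ^ q = ζ := by
    rw [← pow_mul, ← pow_mod_orderOf, hζ, show 2 * q % 3 = 1 by omega, pow_one]
  set S := good_E6.coverData K
  have hr : ∀ a : Fin chevE6.rank, ∀ b : Fin 6,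
      (![5, 1, 4, 3, 2, 0] : Fin 6 → Fin 6) a = b → C.Φ.ρ a = b := fun a b h => (C.rho_eq a).trans h
  have hm : S.hb (ix 0) (ζ : K) * S.hb (ix 5) ((ζ : K) ^ q) *
      (S.hb (ix 2) ((ζ ^ 2 : Kˣ) : K) * S.hb (ix 4) (((ζ ^ 2 : Kˣ) : K) ^ q)) ∈ C.cover :=
    mul_mem
      (C.hb_pair_mem_cover h3 (J := (⟨3, by decide⟩ : Fin orbs.length)) (a := (ix 0)) (b := (ix 5)) rfl
        (hr _ _ rfl) (hr _ _ rfl) (show ix 0 ≠ ix 5 by decide) (List.mem_cons_self ..) _)
      (C.hb_pair_mem_cover h3 (J := (⟨2, by decide⟩ : Fin orbs.length)) (a := (ix 2)) (b := (ix 4)) rfl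
        (hr _ _ rfl) (hr _ _ rfl) (show ix 2 ≠ ix 4 by decide)
        (List.mem_cons_of_mem _ (List.mem_cons_self ..)) _)
  rw [← Units.val_pow_eq_pow_val, ← Units.val_pow_eq_pow_val, hq, hq2] at hm
  let c : Fin chevE6.rank → Kˣ := Pi.mulSingle (ix 0) ζ * Pi.mulSingle (ix 5) (ζ ^ 2) *
    (Pi.mulSingle (ix 2) (ζ ^ 2) * Pi.mulSingle (ix 4) ζ)
  have hc : H.H c = S.hb (ix 0) (ζ : K) * S.hb (ix 5) ((ζ ^ 2 : Kˣ) : K) *
      (S.hb (ix 2) ((ζ ^ 2 : Kˣ) : K) * S.hb (ix 4) (ζ : K)) := by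
    rw [map_mul, map_mul, map_mul, H.hH, H.hH, H.hH, H.hH]
  rw [← hc] at hm
  have hθ : S.θ (H.H c) = E6Data.tab.hT K c := by
    rw [hc, map_mul, map_mul, map_mul, S.θ_hb, S.θ_hb, S.θ_hb, S.θ_hb]
    simp only [c, map_mul, good_E6.full.hT_single]
  have hchi : ∀ (k : Fin chevE6.rank) (j : ℕ) (v : Kˣ),
      E6Data.tab.chi j (Pi.mulSingle k v) = v ^ E6Data.tab.cart k j := by
    intro k j v
    simp only [Tab.chi, MonoidHom.coe_mk, OneHom.coe_mk]
    rw [Fintype.prod_eq_single k fun i hi => by rw [Pi.mulSingle_eq_of_ne hi, _root_.one_zpow],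
      Pi.mulSingle_eq_same]
  have hT : E6Data.tab.hT K c = 1 := by
    rw [good_E6.full.hT_eq_one_iff]
    intro j hj
    obtain ⟨m, hm⟩ := Mult.zeta_exponents ⟨j, hj⟩
    show E6Data.tab.chi (chevE6.simple j) c = 1
    simp only [c, map_mul, hchi]
    rw [← _root_.zpow_natCast ζ 2, ← _root_.zpow_mul, ← _root_.zpow_mul, ← _root_.zpow_add,
      ← _root_.zpow_add, ← _root_.zpow_add]
    simp only [Nat.cast_ofNat, ix] at hm ⊢
    rw [hm, _root_.zpow_mul,
      show ζ ^ (3 : ℤ) = 1 from (_root_.zpow_natCast ζ 3).trans (hζ ▸ pow_orderOf_eq_one ζ),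
      _root_.one_zpow]
  refine ⟨⟨⟨H.H c, hm⟩, MonoidHom.mem_ker.2 (Subtype.ext (hθ.trans hT))⟩, fun h => ?_⟩
  have h' : c = 1 := H.inj ((congrArg (fun x => x.1.1) h :).trans (map_one _).symm)
  have h0 := congrFun h' (ix 0)
  have : ζ = 1 := by
    simpa [c, Pi.mulSingle_apply, ix, Fin.ext_iff] using h0
  rw [this, orderOf_one] at hζ
  omega

end Ctx

end CfsgLib.Chev.E6Tw
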