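import Cfsg.Agent.TwMult.E6.UFams

/-!
The derived group of the preimage of the unipotent subgroup of `²E₆(q)`, `q > 2`, in a central
extension meets the kernel trivially.
-/

set_option autoImplicit false
set_option linter.unusedSectionVars false

namespace CfsgLib.Chev.E6Tw

open Cfsg.Lie Tab Mult CfsgLib.TwMult
open scoped MatrixGroups commutatorElement

variable {K : Type*} [Field K] [Fintype K] {q : ℕ}

namespace Ctx

variable (C : Ctx K q)
include C

theorem fr_lt (k : ℕ) : fr k < 72 := by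
  rcases lt_or_ge k 24 with h | h
  · exact (fam_spec h).2.1
  · have : famR.length ≤ k := le_trans (by decide) h
    rw [fr, List.getD_eq_default _ _ this]
    omega

/-- The `k`-th family in the twisted group. -/
noncomputable def xF (k : ℕ) (t : C.AP (fr k)) : C.Z.G1 :=
  ⟨C.orbEl (fr k) t.1, C.orbEl_mem_G1 (C.fr_lt k) t.2⟩

theorem coe_xF (k : ℕ) (t : C.AP (fr k)) :
    ((C.xF k t : C.Z.G1) : GL chevE6.Idx K) = C.orbEl (fr k) t.1 := rfl

/-- The fixed torus elements. -/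
def TT (C : Ctx K q) : Set C.Z.G1 :=
  {h | ∃ c ∈ C.A.Cσ, (h : GL chevE6.Idx K) = E6Data.tab.hT K c}

open scoped Classical in
/-- The action of an element on a family, where it stabilises it. -/
noncomputable def actF (C : Ctx K q) (k : ℕ) (h : C.Z.G1) (t : C.AP (fr k)) : C.AP (fr k) :=
  if he : ∃ t', h * C.xF k t * h⁻¹ = C.xF k t' then he.choose else t

theorem mem_OQ_pi {k s : ℕ} (hs : s ∈ OQ k) : s < 72 ∧ piE s ∈ OQ k :=
  ⟨hs.1.1, (place_spec hs.1).2.1, by rw [(place_spec hs.1).2.2.1]; exact hs.2⟩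

theorem Z_le_fix (g : C.Z.G1) : C.Φ.A (g : GL chevE6.Idx K) = (g : GL chevE6.Idx K) :=
  ((C.Φ.mem_fix).1 (C.Z.le_fix g.2)).2

theorem xF_conj {k : ℕ} (hk : k < 24) {h : C.Z.G1} (hh : h ∈ C.TT) (t : C.AP (fr k)) :
    h * C.xF k t * h⁻¹ = C.xF k (C.actF k h t) := by
  have he : ∃ t', h * C.xF k t * h⁻¹ = C.xF k t' := by
    obtain ⟨c, -, e⟩ := hh
    have hm : ((h * C.xF k t * h⁻¹ : C.Z.G1) : GL chevE6.Idx K) ∈ good_E6.US K (OQ k) := by
      rw [Subgroup.coe_mul, Subgroup.coe_mul, Subgroup.coe_inv, e]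
      exact good_E6.hT_conj_US (OQ k) (fun s hs => hs.1.1) c (C.x_orb_mem hk t.1)
    obtain ⟨t', ht', e'⟩ := C.exists_orbEl hk hm (C.Z_le_fix _)
    exact ⟨⟨t', ht'⟩, Subtype.ext e'⟩
  rw [actF, dif_pos he]
  exact he.choose_spec

theorem xF_inj {k : ℕ} (hk : k < 24) {a b : C.AP (fr k)} (h : C.xF k a = C.xF k b) : a = b := by
  have e := congrArg Subtype.val h
  rw [C.coe_xF, C.coe_xF] at e
  have h2 : C.orbEl (fr k) (a.1 - b.1) * C.orbEl (fr k) b.1 = C.orbEl (fr k) a.1 := by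
    rw [← C.orbEl_add (C.fr_lt k), sub_add_cancel]
  rw [e, mul_eq_right] at h2
  exact Subtype.ext (sub_eq_zero.1 (C.orbEl_eq_one hk h2))

theorem actF_coc {k : ℕ} (hk : k < 24) (m : ℕ) {u : Kˣ} (hu : u ^ q = u)
    (he : ev m (piE (fr k)) = ev m (fr k)) {h : C.Z.G1} (hh : h ∈ C.TT)
    (e : (h : GL chevE6.Idx K) = E6Data.tab.hT K (C.cocv m u)) (t : C.AP (fr k)) :
    ((C.actF k h t : C.AP (fr k)) : K) = ((u ^ ev m (fr k) : Kˣ) : K) * t.1 := by
  have hq' : (u ^ ev m (fr k)) ^ q = u ^ ev m (fr k) := by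
    rw [← _root_.zpow_natCast, ← _root_.zpow_mul, mul_comm, _root_.zpow_mul, _root_.zpow_natCast,
      hu]
  have e1 := congrArg Subtype.val (C.xF_conj hk hh t)
  rw [Subgroup.coe_mul, Subgroup.coe_mul, Subgroup.coe_inv, e, C.coe_xF, C.coe_xF,
    C.conj_orb hk (C.cocv m u) (C.chi_cocv m _ u) (by rw [C.chi_cocv, he]) hq'] at e1
  exact (congrArg Subtype.val (C.xF_inj hk (a := ⟨_, C.AP_smul hq' t.2⟩)
    (b := C.actF k h t) (Subtype.ext e1))).symm

theorem exists_coc (m : ℕ) {u : Kˣ} (hu : u ^ q = u) :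
    ∃ h : C.Z.G1, h ∈ C.TT ∧ (h : GL chevE6.Idx K) = E6Data.tab.hT K (C.cocv m u) :=
  ⟨⟨_, C.Z.H0_le (C.A.hT_mem_torus (C.cocv_mem m hu))⟩, ⟨_, C.cocv_mem m hu, rfl⟩, rfl⟩

theorem bij_coc {k : ℕ} (hk : k < 24) (m : ℕ) {u : Kˣ} (hu : u ^ q = u)
    (he : ev m (piE (fr k)) = ev m (fr k)) (hne : u ^ ev m (fr k) ≠ 1) {h : C.Z.G1}
    (hh : h ∈ C.TT) (e : (h : GL chevE6.Idx K) = E6Data.tab.hT K (C.cocv m u)) :
    Function.Bijective fun t : C.AP (fr k) => C.actF k h t - t := by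
  have hd : ((u ^ ev m (fr k) : Kˣ) : K) - 1 ≠ 0 :=
    sub_ne_zero.2 fun h => hne (Units.ext h)
  refine Finite.injective_iff_bijective.1 fun a b hab => ?_
  have e1 : ((C.actF k h a - a : C.AP (fr k)) : K) = ((C.actF k h b - b : C.AP (fr k)) : K) :=
    congrArg Subtype.val hab
  rw [AddSubgroupClass.coe_sub, AddSubgroupClass.coe_sub, C.actF_coc hk m hu he hh e,
    C.actF_coc hk m hu he hh e, ← sub_one_mul, ← sub_one_mul] at e1
  exact Subtype.ext (mul_left_cancel₀ hd e1)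

theorem mov_spec {k : ℕ} (hk : k < 24) :
    (ev (movT.getD k 0) (fr k)).natAbs = 1 ∧
      ev (movT.getD k 0) (piE (fr k)) = ev (movT.getD k 0) (fr k) := by
  have h := chkMov_ok
  rw [allBelow_iff] at h
  have h' := h k hk
  simp only [chkMov, Bool.and_eq_true, decide_eq_true_eq] at h'
  exact ⟨h'.1.2, h'.2⟩

/-- The unipotent subgroup filtered by the orbits. -/
noncomputable def fams (C : Ctx K q) (h3 : q ≠ 2) : Fams C.Z.G1 (fun k => C.AP (fr k)) where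
  n := 24
  Q k := (good_E6.US K (SQ k)).subgroupOf C.Z.G1
  Q_top := by
    rw [eq_bot_iff]
    intro g hg
    rw [Subgroup.mem_bot]
    refine Subtype.ext ?_
    have : SQ 24 = ∅ := Set.eq_empty_iff_forall_notMem.2 fun s hs =>
      absurd hs.2 (not_le.2 (place_spec hs.1).1)
    have hg' : (g : GL chevE6.Idx K) ∈ good_E6.US K (SQ 24) := hg
    rw [this, C.US_empty, Subgroup.mem_bot] at hg'
    exact hg'
  x := C.xF
  x_mem k hk t := good_E6.US_mono (S' := SQ k) (fun s hs => ⟨hs.1, hs.2.ge⟩) (C.x_orb_mem hk t.1)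
  x_add k hk s t := Subtype.ext (C.orbEl_add (C.fr_lt k) s.1 t.1)
  dec k hk a ha := by
    obtain ⟨t, ht, b, hb, e⟩ := C.dec_US hk (show (a : GL chevE6.Idx K) ∈ _ from ha) (C.Z_le_fix a)
    refine ⟨⟨t, ht⟩, (C.xF k ⟨t, ht⟩)⁻¹ * a, ?_, by rw [mul_inv_cancel_left]⟩
    show (((C.xF k ⟨t, ht⟩)⁻¹ * a : C.Z.G1) : GL chevE6.Idx K) ∈ good_E6.US K (SQ (k + 1))
    rw [Subgroup.coe_mul, Subgroup.coe_inv, C.coe_xF, e, inv_mul_cancel_left]
    exact hb
  Q_le k hk := fun g hg => good_E6.US_mono (S' := SQ k) (fun s hs => ⟨hs.1, Nat.le_of_succ_le hs.2⟩) hg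
  inj k hk t ht := Subtype.ext (C.orbEl_eq_one hk (C.eq_one_of_disjoint (closed_OQ k)
    (closed_SQ (k + 1)) (fun s hs hs' => by have h1 := hs.2; have h2 := hs'.2; omega)
    (C.x_orb_mem hk t.1) (show C.orbEl (fr k) t.1 ∈ _ from ht)))
  norm k hk t b hb := by
    show ((C.xF k t * b * (C.xF k t)⁻¹ : C.Z.G1) : GL chevE6.Idx K) ∈ good_E6.US K (SQ (k + 1))
    rw [Subgroup.coe_mul, Subgroup.coe_mul, Subgroup.coe_inv, C.coe_xF]
    have hb' : (b : GL chevE6.Idx K) ∈ good_E6.US K (SQ (k + 1)) := hb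
    have key : ∀ r ∈ OQ k, ∀ v : K, ∀ w ∈ good_E6.US K (SQ (k + 1)),
        good_E6.full.x r v * w * (good_E6.full.x r v)⁻¹ ∈ good_E6.US K (SQ (k + 1)) := by
      intro r hr v w hw
      refine good_E6.conj_US _ (fun s hs u => ?_) hw
      have h := good_E6.conj_pos (F := K) hr.1 hs.1 v u (S := SQ (k + 1)) fun _ c hc =>
        ⟨(climb hr.1 hs.1 hc).1, le_trans hs.2 (climb hr.1 hs.1 hc).2.2.le⟩
      have h' := mul_mem (good_E6.x_mem_US hs u) h
      rwa [mul_inv_cancel_left] at h'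
    obtain ⟨hp, -, hf⟩ := fam_spec hk
    have h1 : fr k ∈ OQ k := ⟨hp, hf⟩
    rw [orbEl]
    split_ifs
    · rw [mul_one]; exact key _ h1 _ _ hb'
    · rw [show ∀ x y : GL chevE6.Idx K, x * y * (b : GL chevE6.Idx K) * (x * y)⁻¹ =
        x * (y * b * y⁻¹) * x⁻¹ from fun x y => by group]
      exact key _ h1 _ _ (key _ (C.mem_OQ_pi h1).2 _ _ hb')
  T := C.TT
  T_comm := by
    rintro a ⟨c, -, ea⟩ b ⟨d, -, eb⟩
    refine Subtype.ext ?_
    show (a : GL chevE6.Idx K) * b = b * a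
    rw [ea, eb, ← map_mul, mul_comm, map_mul]
  act := C.actF
  x_conj k hk h hh t := C.xF_conj hk hh t
  moved k hk := by
    obtain ⟨u, hu, hne⟩ := C.exists_unit h3
    obtain ⟨h, hh, e⟩ := C.exists_coc (movT.getD k 0) hu
    exact ⟨h, hh, C.bij_coc hk _ hu (C.mov_spec hk).2 (hne _ (C.mov_spec hk).1) hh e⟩

omit C in
theorem comm_four {G : Type*} [Group G] {P Q R S : G} (h1 : Commute P Q) (h2 : Commute P S)
    (h3 : Commute Q R) (h4 : Commute R S) : ⁅P * Q, R * S⁆ = ⁅P, R⁆ * ⁅Q, S⁆ := by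
  set W := ⁅Q, S⁆ with hW
  have hP : Commute P W := by
    rw [hW, commutatorElement_def]
    exact ((h1.mul_right h2).mul_right h1.inv_right).mul_right h2.inv_right
  have hR : Commute R W := by
    rw [hW, commutatorElement_def]
    exact ((h3.symm.mul_right h4).mul_right h3.symm.inv_right).mul_right h4.inv_right
  calc ⁅P * Q, R * S⁆ = P * (Q * R) * S * Q⁻¹ * P⁻¹ * S⁻¹ * R⁻¹ := by
        rw [commutatorElement_def]; group
    _ = P * (R * Q) * S * Q⁻¹ * (P⁻¹ * S⁻¹) * R⁻¹ := by rw [h3.eq]; group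
    _ = P * R * (W * S) * (P⁻¹ * S⁻¹) * R⁻¹ := by
        rw [hW, commutatorElement_def]; group
    _ = P * R * (W * S) * (S⁻¹ * P⁻¹) * R⁻¹ := by rw [(h2.inv_inv).eq]
    _ = P * R * (W * P⁻¹) * R⁻¹ := by group
    _ = P * R * (P⁻¹ * W) * R⁻¹ := by rw [← hP.inv_left.eq]
    _ = P * R * P⁻¹ * (W * R⁻¹) := by group
    _ = P * R * P⁻¹ * (R⁻¹ * W) := by rw [← hR.inv_left.eq]
    _ = ⁅P, R⁆ * W := by rw [commutatorElement_def P R]; group

variable {Γ : Type*} [Group Γ] {σ : Γ →* C.Z.G1} (X : CExt σ)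
include X

theorem cm_of_dec {k i a b : ℕ} (hk : k < 24) (hi : i < 24)
    (h : Mult.chkDec (fr k) (fr i) a b = true) (t : C.AP (fr k)) (v : C.AP (fr i)) :
    X.cm (C.xF k t) (C.xF i v) = 1 := by
  simp only [Mult.chkDec, Bool.and_eq_true, Nat.blt_eq, Bool.not_eq_true'] at h
  obtain ⟨⟨⟨⟨⟨⟨⟨⟨⟨⟨⟨⟨⟨⟨⟨⟨ha, hb⟩, hna⟩, hnb⟩, hone⟩, haa⟩, hbb⟩, hab'⟩, ha'b⟩,
    c1⟩, c2⟩, c3⟩, c4⟩, c5⟩, c6⟩, c7⟩, c8⟩ := h
  have hna' := ChevMult.ne_of_beq_false hna
  have hnb' := ChevMult.ne_of_beq_false hnb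
  split at hone
  swap
  · exact absurd hone (by simp)
  rename_i p hp
  obtain ⟨r, M⟩ := p
  simp only [Nat.beq_eq] at hone
  subst hone
  obtain ⟨-, hlt, -⟩ := fam_spec hk
  have hM := (ChevMult.one_spec (F := K) hp).2.2.2.1
  have hapi := (root_spec ha).1
  have hbpi := (root_spec hb).1
  obtain ⟨w, hw⟩ : ∃ w : K, C.orbEl (fr k) t.1 =
      good_E6.full.x (fr k) w * good_E6.full.x (piE (fr k)) (C.ff (fr k) w) := by
    by_cases e : piE (fr k) = fr k
    · have ht : t.1 ^ q = t.1 := by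
        have := t.2 e
        rwa [C.ff_fixed hlt e] at this
      obtain ⟨w, hw⟩ := C.exists_trace ht
      refine ⟨w, ?_⟩
      rw [orbEl, if_pos e, mul_one, e, good_E6.full.x_add, C.ff_fixed hlt e, hw]
    · exact ⟨t.1, by rw [orbEl, if_neg e]⟩
  set u := (M : K) * w
  let E : C.Z.G1 := ⟨C.orbEl a u, C.orbEl_mem_G1 ha (fun h' => absurd h' hna')⟩
  let F : C.Z.G1 := ⟨C.orbEl b 1, C.orbEl_mem_G1 hb (fun h' => absurd h' hnb')⟩
  have hPR : ⁅good_E6.full.x a u, good_E6.full.x b (1 : K)⁆ = good_E6.full.x (fr k) w := by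
    rw [ChevMult.x_one good_E6 ha hb hp, mul_one, ← mul_assoc, hM, one_mul]
  have hQS : ⁅good_E6.full.x (piE a) (C.ff a u), good_E6.full.x (piE b) (C.ff b 1)⁆ =
      good_E6.full.x (piE (fr k)) (C.ff (fr k) w) := by
    have e1 := congrArg C.Φ.A hPR
    rw [C.A_x' hlt] at e1
    rw [← e1, commutatorElement_def, commutatorElement_def,
      C.Φ.A_mul (mul_mem (mul_mem (good_E6.x_mem_group _ _) (good_E6.x_mem_group _ _))
        (inv_mem (good_E6.x_mem_group _ _))) (inv_mem (good_E6.x_mem_group _ _)),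
      C.Φ.A_mul (mul_mem (good_E6.x_mem_group _ _) (good_E6.x_mem_group _ _))
        (inv_mem (good_E6.x_mem_group _ _)),
      C.Φ.A_mul (good_E6.x_mem_group _ _) (good_E6.x_mem_group _ _),
      C.Φ.A_inv (good_E6.x_mem_group _ _), C.Φ.A_inv (good_E6.x_mem_group _ _),
      C.A_x' ha, C.A_x' hb]
  have hx : C.xF k t = ⁅E, F⁆ := by
    refine Subtype.ext ?_
    show C.orbEl (fr k) t.1 = ((⁅E, F⁆ : C.Z.G1) : GL chevE6.Idx K)
    rw [commutatorElement_def, Subgroup.coe_mul, Subgroup.coe_mul, Subgroup.coe_mul,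
      Subgroup.coe_inv, Subgroup.coe_inv, ← commutatorElement_def]
    show _ = ⁅C.orbEl a u, C.orbEl b 1⁆
    rw [hw, show C.orbEl a u = good_E6.full.x a u * good_E6.full.x (piE a) (C.ff a u) by
      rw [orbEl, if_neg hna'], show C.orbEl b 1 = good_E6.full.x b 1 *
      good_E6.full.x (piE b) (C.ff b 1) by rw [orbEl, if_neg hnb'], comm_four (ChevMult.x_cQ good_E6 ha hapi haa _ _)
      (ChevMult.x_cQ good_E6 ha hbpi hab' _ _) (ChevMult.x_cQ good_E6 hapi hb ha'b _ _)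
      (ChevMult.x_cQ good_E6 hb hbpi hbb _ _), hPR, hQS]
  have hcom : ∀ s ∈ ([a, b] : List ℕ), ∀ z : K, Commute (C.orbEl s z) (C.orbEl (fr i) v.1) := by
    intro s hs z
    obtain ⟨hs1, d1, d2, d3, d4⟩ : s < 72 ∧ cq s (fr i) = true ∧ cq (piE s) (fr i) = true ∧
        cq s (piE (fr i)) = true ∧ cq (piE s) (piE (fr i)) = true := by
      simp only [List.mem_cons, List.not_mem_nil, or_false] at hs
      rcases hs with rfl | rfl
      exacts [⟨ha, c1, c2, c5, c6⟩, ⟨hb, c3, c4, c7, c8⟩]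
    have k1 := (fam_spec hi).2.1
    have k2 := (root_spec k1).1
    have k3 := (root_spec hs1).1
    rw [orbEl, orbEl]
    refine Commute.mul_left (Commute.mul_right (ChevMult.x_cQ good_E6 hs1 k1 d1 _ _) ?_) ?_
    · split_ifs
      exacts [Commute.one_right _, ChevMult.x_cQ good_E6 hs1 k2 d3 _ _]
    · split_ifs
      exacts [Commute.one_left _, Commute.one_left _,
        Commute.mul_right (ChevMult.x_cQ good_E6 k3 k1 d2 _ _) (Commute.one_right _),
        Commute.mul_right (ChevMult.x_cQ good_E6 k3 k1 d2 _ _)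
          (ChevMult.x_cQ good_E6 k3 k2 d4 _ _)]
  have hy : ∀ g : C.Z.G1, Commute (g : GL chevE6.Idx K) (C.orbEl (fr i) v.1) →
      C.xF i v * g * (C.xF i v)⁻¹ = g := fun g hg => by
    refine Subtype.ext ?_
    rw [Subgroup.coe_mul, Subgroup.coe_mul, Subgroup.coe_inv, C.coe_xF, ← hg.eq,
      mul_inv_cancel_right]
  have key := X.cm_conj (X.l (C.xF i v)) E F
  rw [X.map_l, hy E (hcom a (by simp) u), hy F (hcom b (by simp) 1)] at key
  rw [X.cm_eq_one_iff (a := X.cm E F) (by rw [X.map_cm, hx]) (X.map_l _)]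
  exact (mul_inv_eq_iff_eq_mul.1 key).symm

theorem fams_pairs (h3 : q ≠ 2) (k i : ℕ) (hki : k ≤ i) (hi : i < (C.fams h3).n) :
    (∀ a b, X.cm ((C.fams h3).x k a) ((C.fams h3).x i b) = 1) ∨
      ∃ h ∈ (C.fams h3).T, (∀ a, (C.fams h3).act k h a = a) ∧
        Function.Surjective fun t => (C.fams h3).act i h t - t := by
  have hi' : i < 24 := hi
  have hk : k < 24 := lt_of_le_of_lt hki hi'
  have h := chkPair_ok
  rw [allBelow_iff] at h
  have h' := h k hk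
  rw [allBelow_iff] at h'
  have hp := h' i hi'
  simp only [Bool.or_eq_true, Nat.blt_eq] at hp
  have hp' := hp.resolve_left (by omega)
  simp only [Mult.chkPair] at hp'
  set m := (pairT.getD k []).getD i 0
  cases hm : Nat.blt m 1000
  · simp only [hm, cond_false] at hp'
    exact Or.inl fun a b => C.cm_of_dec X hk hi' hp' a b
  · simp only [hm, cond_true, Bool.and_eq_true, decide_eq_true_eq] at hp'
    obtain ⟨⟨⟨⟨-, e0⟩, e1⟩, e0'⟩, e1'⟩ := hp'
    obtain ⟨u, hu, hne⟩ := C.exists_unit h3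
    obtain ⟨g, hg, e⟩ := C.exists_coc m hu
    refine Or.inr ⟨g, hg, fun a => Subtype.ext ?_, (C.bij_coc hi' m hu e1' (hne _ e1) hg e).2⟩
    show ((C.actF k g a : C.AP (fr k)) : K) = a.1
    rw [C.actF_coc hk m hu (by rw [e0', e0]) hg e, e0, _root_.zpow_zero, Units.val_one, one_mul]

/-- The derived group of the preimage of `U` meets the kernel trivially. -/
theorem derived_inf_ker (h3 : q ≠ 2) :
    ∀ z ∈ ⁅(C.Z.U1.subgroupOf C.Z.G1).comap σ, (C.Z.U1.subgroupOf C.Z.G1).comap σ⁆,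
      z ∈ σ.ker → z = 1 := by
  have hQ : C.Z.U1.subgroupOf C.Z.G1 = (C.fams h3).Q 0 := by
    show _ = (good_E6.US K (SQ 0)).subgroupOf C.Z.G1
    have : SQ 0 = {r | IsPos chevE6 r} := by ext; simp [SQ]
    rw [this, ← good_E6.posUnipotent_eq]
    ext g
    simp only [Subgroup.mem_subgroupOf]
    refine ⟨fun hg => hg.2, fun hg => ?_⟩
    rw [← C.Z.inf_pos]
    exact ⟨g.2, hg⟩
  rw [hQ]
  exact (C.fams h3).derived_inf_ker X (C.fams_pairs X h3)

end Ctx

end CfsgLib.Chev.E6Tw
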