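import Cfsg.Agent.ChevMult.Pure
import Cfsg.Agent.Chev.TwistedE6

/-!
Certificates for the root orbits of `²E₆`: an ordering, separating cocharacters and decompositions
of roots into sums.
-/

set_option autoImplicit false

namespace CfsgLib.Chev.E6Tw.Mult

open Cfsg.Lie Tab

/-- One positive root of each orbit, by height. -/
def famR : List ℕ :=
  [36, 37, 39, 46, 38, 40, 47, 41, 44, 48, 45, 49, 51, 52, 53, 60, 54, 63, 55, 65, 66, 69, 70, 71]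

/-- The place of the orbit of a positive root. -/
def famI : List ℕ :=
  [0, 1, 4, 2, 5, 7, 1, 5, 8, 10, 3, 6, 9, 11, 9, 12, 13, 14, 16, 18, 0, 4, 7, 10, 15, 11, 13,
    17, 16, 19, 20, 18, 20, 21, 22, 23]

/-- Cocharacters, by coordinates on the orbits of fundamental roots. -/
def cocs : List (List ℤ) :=
  [[0, -1, 0, 0], [-1, 0, 0, 0], [0, 0, -2, -1], [0, -1, 0, 1], [0, -2, -1, 0], [0, -1, -1, -1],
    [0, -1, -1, 0], [0, 0, 0, -1], [-2, -1, 0, 0], [0, 0, -1, 0], [-1, -2, -1, 0],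
    [-1, -2, 0, 0], [0, -1, 0, -1], [-1, 0, 0, 1], [-1, -1, 0, 0], [-1, 0, 1, 1],
    [-1, 1, 0, 0], [-1, -1, -1, 0], [-1, 0, 0, -1], [-1, 0, 1, 0], [0, 0, -1, -1],
    [-2, 0, -1, 0], [-1, 0, -1, 0], [-2, 0, 0, -1], [0, -2, 0, -1], [-2, 0, 0, 1]]

/-- For every pair of orbits: the number of a separating cocharacter, or 1000 plus the code of a
decomposition of the first root. -/
def pairT : List (List ℕ) :=
  [[1356, 0, 1, 0, 0, 1, 1, 1, 1, 1, 1, 1, 1, 1, 0, 1, 0, 1, 2, 0, 2, 0, 1, 1],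
   [0, 1782, 1, 3, 4, 1, 1, 1, 1, 1, 1, 1, 1, 1, 5, 1, 3, 1, 3, 3, 3, 3, 1, 1],
   [0, 0, 1712, 6, 7, 7, 6, 7, 1712, 7, 6, 7, 6, 8, 6, 1712, 8, 6, 7, 6, 7, 6, 6, 2066],
   [0, 0, 0, 1926, 9, 7, 10, 9, 11, 7, 9, 9, 11, 9, 1926, 11, 9, 11, 9, 1926, 7, 1997, 11, 11],
   [0, 0, 0, 0, 1570, 1, 1, 1, 1, 1, 1, 1, 1, 1, 6, 1, 12, 1, 6, 6, 12, 6, 1, 1],
   [0, 0, 0, 0, 0, 1784, 13, 9, 14, 14, 9, 9, 15, 9, 14, 14, 9, 13, 9, 14, 13, 14, 13, 14],
   [0, 0, 0, 0, 0, 0, 1928, 7, 16, 7, 16, 7, 1928, 17, 16, 16, 16, 1928, 7, 16, 7, 16, 2069, 16],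
   [0, 0, 0, 0, 0, 0, 0, 1714, 14, 14, 14, 14, 18, 18, 14, 14, 14, 19, 18, 14, 18, 14, 18, 14],
   [0, 0, 0, 0, 0, 0, 0, 0, 1787, 20, 20, 21, 0, 0, 0, 1787, 0, 0, 21, 0, 20, 0, 0, 2139],
   [0, 0, 0, 0, 0, 0, 0, 0, 0, 2000, 9, 9, 0, 0, 0, 18, 0, 0, 9, 0, 18, 0, 0, 18],
   [0, 0, 0, 0, 0, 0, 0, 0, 0, 0, 1788, 7, 0, 0, 0, 22, 0, 0, 7, 0, 7, 0, 0, 22],
   [0, 0, 0, 0, 0, 0, 0, 0, 0, 0, 0, 1930, 0, 0, 0, 22, 0, 0, 22, 0, 13, 0, 0, 22],
   [0, 0, 0, 0, 0, 0, 0, 0, 0, 0, 0, 0, 2003, 20, 14, 14, 14, 2003, 23, 14, 20, 14, 2142, 14],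
   [0, 0, 0, 0, 0, 0, 0, 0, 0, 0, 0, 0, 0, 2004, 14, 14, 14, 19, 7, 14, 7, 14, 19, 14],
   [0, 0, 0, 0, 0, 0, 0, 0, 0, 0, 0, 0, 0, 0, 2075, 1, 9, 1, 9, 2075, 24, 2144, 1, 1],
   [0, 0, 0, 0, 0, 0, 0, 0, 0, 0, 0, 0, 0, 0, 0, 2580, 0, 0, 9, 0, 23, 0, 0, 3651],
   [0, 0, 0, 0, 0, 0, 0, 0, 0, 0, 0, 0, 0, 0, 0, 0, 2076, 1, 7, 6, 7, 6, 1, 1],
   [0, 0, 0, 0, 0, 0, 0, 0, 0, 0, 0, 0, 0, 0, 0, 0, 0, 3084, 9, 14, 25, 14, 3654, 14],
   [0, 0, 0, 0, 0, 0, 0, 0, 0, 0, 0, 0, 0, 0, 0, 0, 0, 0, 2146, 0, 20, 0, 1, 1],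
   [0, 0, 0, 0, 0, 0, 0, 0, 0, 0, 0, 0, 0, 0, 0, 0, 0, 0, 0, 3156, 20, 3656, 1, 1],
   [0, 0, 0, 0, 0, 0, 0, 0, 0, 0, 0, 0, 0, 0, 0, 0, 0, 0, 0, 0, 3800, 0, 1, 1],
   [0, 0, 0, 0, 0, 0, 0, 0, 0, 0, 0, 0, 0, 0, 0, 0, 0, 0, 0, 0, 0, 3732, 1, 1],
   [0, 0, 0, 0, 0, 0, 0, 0, 0, 0, 0, 0, 0, 0, 0, 0, 0, 0, 0, 0, 0, 0, 3948, 14],
   [0, 0, 0, 0, 0, 0, 0, 0, 0, 0, 0, 0, 0, 0, 0, 0, 0, 0, 0, 0, 0, 0, 0, 4524]]

/-- A cocharacter moving each orbit. -/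
def movT : List ℕ :=
  [9, 0, 1, 0, 0, 1, 1, 1, 1, 1, 1, 1, 1, 1, 0, 1, 0, 1, 9, 0, 7, 0, 1, 1]

/-- The image of a root under the graph map. -/
def piE (s : ℕ) : ℕ := (mapAt graphMapE6 s).1

/-- The root chosen in the `k`-th orbit. -/
def fr (k : ℕ) : ℕ := famR.getD k 0

/-- The place of a positive root. -/
def fi (s : ℕ) : ℕ := famI.getD (s - 36) 0

/-- The roots commute. -/
def cq (a b : ℕ) : Bool := ChevMult.cQ E6Data.tab a b

/-- The coordinates of a cocharacter on the fundamental roots. -/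
def cvec (m : ℕ) : List ℤ :=
  let c := cocs.getD m []
  [c.getD 3 0, c.getD 0 0, c.getD 2 0, c.getD 1 0, c.getD 2 0, c.getD 3 0]

/-- The weight of a root under a cocharacter. -/
def ev (m s : ℕ) : ℤ :=
  (cvec m).getD 0 0 * E6Data.tab.cart 0 s + (cvec m).getD 1 0 * E6Data.tab.cart 1 s +
    (cvec m).getD 2 0 * E6Data.tab.cart 2 s + (cvec m).getD 3 0 * E6Data.tab.cart 3 s +
    (cvec m).getD 4 0 * E6Data.tab.cart 4 s + (cvec m).getD 5 0 * E6Data.tab.cart 5 s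

/-- The orbit is that of commuting roots with inverse signs. -/
def chkRoot (s : ℕ) : Bool :=
  Nat.blt (piE s) 72 && Nat.beq (piE (piE s)) s && (Nat.beq (piE s) s || cq s (piE s)) &&
    Nat.beq (mapAt graphMapE6 s).2.2 1 &&
    decide ((mapAt graphMapE6 s).2.1 * (mapAt graphMapE6 (piE s)).2.1 = 1) &&
    (!(Nat.beq (piE s) s) || decide ((mapAt graphMapE6 s).2.1 = 1))

/-- The place of a positive root and of its image. -/
def chkPlace (s : ℕ) : Bool :=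
  Nat.blt s 36 || (Nat.blt (fi s) 24 && Nat.ble 36 (piE s) && Nat.beq (fi (piE s)) (fi s) &&
    (Nat.beq (fr (fi s)) s || Nat.beq (fr (fi s)) (piE s)))

/-- The chosen roots are positive and have the right places. -/
def chkFam (k : ℕ) : Bool :=
  Nat.ble 36 (fr k) && Nat.blt (fr k) 72 && Nat.beq (fi (fr k)) k

/-- Commutators climb. -/
def chkClimb (r s : ℕ) : Bool :=
  (E6Data.tab.commT r s).all fun c =>
    Nat.blt c.1 72 && Nat.ble 36 c.1 && Nat.blt (fi r) (fi c.1) && Nat.blt (fi s) (fi c.1)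

/-- A decomposition of the root `r`, commuting with the orbit of `s`. -/
def chkDec (r s a b : ℕ) : Bool :=
  Nat.blt a 72 && Nat.blt b 72 && !(Nat.beq (piE a) a) && !(Nat.beq (piE b) b) &&
    (match ChevMult.one E6Data.tab a b with | some p => Nat.beq p.1 r | none => false) &&
    cq a (piE a) && cq b (piE b) && cq a (piE b) && cq (piE a) b &&
    cq a s && cq (piE a) s && cq b s && cq (piE b) s &&
    cq a (piE s) && cq (piE a) (piE s) && cq b (piE s) && cq (piE b) (piE s)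

/-- The certificate of a pair of orbits. -/
def chkPair (k i : ℕ) : Bool :=
  let m := (pairT.getD k []).getD i 0
  cond (Nat.blt m 1000)
    (Nat.blt m cocs.length && decide (ev m (fr k) = 0) && decide ((ev m (fr i)).natAbs = 1) &&
      decide (ev m (piE (fr k)) = 0) && decide (ev m (piE (fr i)) = ev m (fr i)))
    (chkDec (fr k) (fr i) ((m - 1000) / 72) ((m - 1000) % 72))

/-- The certificate moving an orbit. -/
def chkMov (k : ℕ) : Bool :=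
  let m := movT.getD k 0
  Nat.blt m cocs.length && decide ((ev m (fr k)).natAbs = 1) &&
    decide (ev m (piE (fr k)) = ev m (fr k))

/-- A root commutes with itself. -/
def chkSelf (s : ℕ) : Bool := (E6Data.tab.commT s s).isEmpty

theorem chkSelf_ok : allBelow chkSelf 72 = true := by decide +kernel

theorem chkRoot_ok : allBelow chkRoot 72 = true := by decide +kernel

theorem chkPlace_ok : allBelow chkPlace 72 = true := by decide +kernel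

theorem chkFam_ok : allBelow chkFam 24 = true := by decide +kernel

theorem chkClimb_ok :
    allBlock (fun r => allBlock (chkClimb r) 36 36) 36 36 = true := by decide +kernel

theorem chkMov_ok : allBelow chkMov 24 = true := by decide +kernel

theorem chkPair_ok :
    allBelow (fun k => allBelow (fun i => Nat.blt i k || chkPair k i) 24) 24 = true := by
  decide +kernel

end CfsgLib.Chev.E6Tw.Mult
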