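import Cfsg.Agent.TwMult.A1Hom
import Cfsg.Agent.TwMult.RankOneCop
import Cfsg.Agent.TwMult.TwistedDataC
import Cfsg.Agent.Chev.E6TwOut

/-!
The split (B, N)-pair of `²E₆(q)` and the bound on the part of its multiplier prime to `q`.
-/

set_option autoImplicit false
set_option linter.style.haveILetI false
set_option linter.unusedSectionVars false

namespace CfsgLib.Chev.E6Tw

open Cfsg.Lie Tab CfsgLib.TwMult
open scoped MatrixGroups

universe u

variable {K : Type u} [Field K] [Fintype K] {q : ℕ}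

/-- The rank is not zero. -/
local instance neZeroRankPrime : NeZero chevE6.rank := ⟨by decide⟩

/-- Words in orbit numbers conjugating one reflection to another. -/
def braidW : List (ℕ × List ℕ × ℕ) :=
  [(0, [2], 0), (0, [3], 0), (1, [3], 1), (1, [1, 0], 0), (3, [3, 2], 2), (1, [2, 1, 2], 1)]

/-- The flattened word. -/
def flatO (L : List ℕ) : List ℕ := L.flatMap fun J => orbs.getD J []

/-- A braid relation in the Weyl group. -/
def chkBraid (b : ℕ × List ℕ × ℕ) : Bool :=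
  allBelow (fun s => Nat.beq (E6Data.tab.wordT (flatO (b.2.1 ++ [b.1])) s)
    (E6Data.tab.wordT (flatO (b.2.2 :: b.2.1)) s)) 72 &&
  (orbs.getD b.1 []).all fun i => (orbs.getD b.2.2 []).any fun j =>
    Nat.beq (E6Data.tab.wordT (flatO b.2.1) (chevE6.simple i)) (chevE6.simple j)

theorem chkBraid_ok : braidW.all chkBraid = true := by decide +kernel

theorem orb_neighbours :
    E6Data.tab.cart 1 (chevE6.simple 3) = -1 ∧ E6Data.tab.cart 3 (chevE6.simple 1) = -1 ∧
    E6Data.tab.cart 2 (chevE6.simple 0) = -1 ∧ E6Data.tab.cart 4 (chevE6.simple 0) = 0 ∧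
    E6Data.tab.cart 0 (chevE6.simple 2) = -1 ∧ E6Data.tab.cart 5 (chevE6.simple 2) = 0 := by
  decide +kernel

theorem orderOf_braid {Q : Type*} [Group Q] {a b : Q} (ha : a * a = 1) (hb : b * b = 1) :
    (b * a * b⁻¹ = a → (a * b) ^ 2 = 1) ∧
    (b * a * b * (b * a)⁻¹ = a → (a * b) ^ 3 = 1) ∧
    (b * a * b * a * (b * a * b)⁻¹ = a → (a * b) ^ 4 = 1) := by
  have ia : a⁻¹ = a := inv_eq_of_mul_eq_one_right ha
  have ib : b⁻¹ = b := inv_eq_of_mul_eq_one_right hb
  refine ⟨fun h => ?_, fun h => ?_, fun h => ?_⟩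
  · have h' := mul_inv_eq_one.2 h
    rw [ia, ib] at h'
    rw [show (a * b) ^ 2 = a * (b * a * b * a) * a⁻¹ by simp only [pow_succ, pow_zero, one_mul, ← mul_assoc]; group, h', mul_one, mul_inv_cancel]
  · have h' := mul_inv_eq_one.2 h
    simp only [_root_.mul_inv_rev, ia, ib] at h'
    rw [show (a * b) ^ 3 = a * (b * a * b * (a * b) * a) * a⁻¹ by simp only [pow_succ, pow_zero, one_mul, ← mul_assoc]; group, h', mul_one,
      mul_inv_cancel]
  · have h' := mul_inv_eq_one.2 h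
    simp only [_root_.mul_inv_rev, ia, ib] at h'
    rw [show (a * b) ^ 4 = a * (b * a * b * a * (b * (a * b)) * a) * a⁻¹ by simp only [pow_succ, pow_zero, one_mul, ← mul_assoc]; group, h', mul_one,
      mul_inv_cancel]

namespace Ctx

variable (C : Ctx K q)
include C

/-- The fixed field. -/
def kq (C : Ctx K q) : Subfield K := C.φ.eqLocusField (RingHom.id K)

theorem mem_kq {x : K} : x ∈ C.kq ↔ x ^ q = x := by
  rw [← C.hφ]; exact Iff.rfl

theorem card_kq : Nat.card C.kq = q := by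
  rw [Nat.card_congr (Equiv.subtypeEquivRight (q := fun x : K => x ^ q = x) fun _ => C.mem_kq)]
  exact card_fixed C.hq C.hK

theorem card_kq_units : Nat.card C.kqˣ = q - 1 := by
  rw [Nat.card_units, C.card_kq]

/-- The parameters of a long orbit. -/
def ιl (C : Ctx K q) : Fin chevE6.rank → (C.kq →+* K) := fun _ => C.kq.subtype

/-- The parameters of a short orbit. -/
def ιs (C : Ctx K q) (a : Fin chevE6.rank) : Fin chevE6.rank → (K →+* K) :=
  fun i => if i = a then RingHom.id K else C.φ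

theorem paramLong {J : Fin orbs.length} {a : Fin chevE6.rank} (hJ : good_E6.oJ orbs J = [a])
    (ha : C.Φ.ρ a = a) : C.A.Param J C.ιl where
  tup x i hi := by
    rw [hJ, List.mem_singleton] at hi
    subst hi
    show (x : K) = C.Φ.f _ (x : K)
    rw [C.f_simp]
    exact (C.mem_kq.1 x.2).symm
  cov t ht := by
    have e := ht a (by rw [hJ]; exact List.mem_singleton_self _)
    rw [C.f_simp, ha] at e
    exact ⟨⟨t a, C.mem_kq.2 e.symm⟩, fun i hi => by rw [hJ, List.mem_singleton] at hi; rw [hi]; rfl⟩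

theorem paramShort {J : Fin orbs.length} {a b : Fin chevE6.rank} (hJ : good_E6.oJ orbs J = [a, b])
    (ha : C.Φ.ρ a = b) (hb : C.Φ.ρ b = a) (hab : a ≠ b) : C.A.Param J (C.ιs a) where
  tup x i hi := by
    rw [hJ] at hi
    simp only [List.mem_cons, List.not_mem_nil, or_false] at hi
    rcases hi with rfl | rfl
    · simp [ιs, ha, hab.symm, C.f_simp, C.hφ]
    · simp [ιs, hb, hab.symm, C.f_simp, C.hφ, C.pow_qq]
  cov t ht := ⟨t a, fun i hi => by
    rw [hJ] at hi
    simp only [List.mem_cons, List.not_mem_nil, or_false] at hi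
    have e := ht a (by rw [hJ]; exact List.mem_cons_self ..)
    rw [C.f_simp, ha] at e
    rcases hi with rfl | rfl
    · simp [ιs]
    · simp [ιs, hab.symm, C.hφ, e]⟩

theorem inj_of_neighbour {k : Type*} [Field k] {J : Fin orbs.length}
    {ι : Fin chevE6.rank → (k →+* K)} (P : C.A.Param J ι) {a j : Fin chevE6.rank}
    (ha : a ∈ good_E6.oJ orbs J) (hc : E6Data.tab.cart a (chevE6.simple j) = -1)
    (ho : ∀ i ∈ good_E6.oJ orbs J, i ≠ a → E6Data.tab.cart i (chevE6.simple j) = 0) :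
    Function.Injective (C.A.rootHom (htor := C.htor) P) := by
  refine C.A.rootHom_injective P fun x hx => ?_
  have h := (good_E6.full.hT_eq_one_iff (F := K) _).mp hx j j.isLt
  change ∏ i : Fin chevE6.rank, C.A.res J (fun i => Units.map (ι i).toMonoidHom x) i ^
    E6Data.tab.cart i (chevE6.simple j) = 1 at h
  rw [Fintype.prod_eq_single a (fun i hi => ?_), hc, Good.A1Data.res, if_pos ha,
    _root_.zpow_neg, _root_.zpow_one, inv_eq_one] at h
  · exact Units.map_injective (f := (ι a).toMonoidHom) (ι a).injective (h.trans (map_one _).symm)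
  · by_cases hm : i ∈ good_E6.oJ orbs J
    · rw [ho i hm hi, _root_.zpow_zero]
    · rw [Good.A1Data.res, if_neg hm, _root_.one_zpow]

theorem card_torus_eq {k : Type*} [Field k] [Finite k] {J : Fin orbs.length}
    {ι : Fin chevE6.rank → (k →+* K)} (P : C.A.Param J ι)
    (hinj : Function.Injective (C.A.rootHom (htor := C.htor) P)) :
    Nat.card (C.Z.H0.subgroupOf C.Z.G1 ⊓ C.Z.LG J : Subgroup C.Z.G1) = Nat.card kˣ := by
  refine le_antisymm (C.A.card_torus_le (htor := C.htor) P) ?_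
  refine Nat.card_le_card_of_injective (fun x => (⟨C.A.rootHom (htor := C.htor) P (RankOne.eH x),
    C.A.rootHom_eH_mem P x, (C.A.rootHom_range P).le ⟨_, rfl⟩⟩ :
      (C.Z.H0.subgroupOf C.Z.G1 ⊓ C.Z.LG J : Subgroup C.Z.G1))) fun x y h => ?_
  have e := hinj (congrArg Subtype.val h)
  have e' := congrArg (fun g : SL(2, k) => (g : Matrix (Fin 2) (Fin 2) k) 0 0) e
  simp [RankOne.coe_eH] at e'
  exact Units.ext e'

/-- The orbit with the given number. -/
def oo (C : Ctx K q) (j : Fin 4) : Fin C.Z.nJ := ⟨j.val, j.isLt⟩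

/-- The braid relations. -/
def braidZ (C : Ctx K q) : List (Fin C.Z.nJ × List (Fin C.Z.nJ) × Fin C.Z.nJ) :=
  [(C.oo 0, [C.oo 2], C.oo 0), (C.oo 0, [C.oo 3], C.oo 0), (C.oo 1, [C.oo 3], C.oo 1),
    (C.oo 1, [C.oo 1, C.oo 0], C.oo 0), (C.oo 3, [C.oo 3, C.oo 2], C.oo 2),
    (C.oo 1, [C.oo 2, C.oo 1, C.oo 2], C.oo 1)]

theorem isBraidZ : ∀ b ∈ C.braidZ, C.Z.IsBraid b := by
  intro b hb
  have hmem : (b.1.val, b.2.1.map Fin.val, b.2.2.val) ∈ braidW := by
    have : (C.braidZ.map fun b => (b.1.val, b.2.1.map Fin.val, b.2.2.val)) = braidW := rfl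
    rw [← this]
    exact List.mem_map_of_mem hb
  have h := List.all_eq_true.1 chkBraid_ok _ hmem
  simp only [chkBraid, Bool.and_eq_true, allBelow_iff, Nat.beq_eq, List.all_eq_true,
    List.any_eq_true] at h
  have hflat : ∀ L : List (Fin C.Z.nJ),
      (L.flatMap C.Z.word).map Fin.val = flatO (L.map Fin.val) := fun L => by
    induction L with
    | nil => rfl
    | cons J L ih =>
      rw [List.flatMap_cons, List.map_append, ih,
        show (C.Z.word J).map Fin.val = orbs.getD J.val [] from C.A.spec.map_word J]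
      rfl
  have hv : ∀ (L : List (Fin C.Z.nJ)) (s : Fin chevE6.nroots),
      (C.Z.pwT L s).val = E6Data.tab.wordT (flatO (L.map Fin.val)) s.val := fun L s => by
    rw [Good.Twisted.pwT, good_E6.pw_apply, hflat]
  refine ⟨Equiv.ext fun s => Fin.ext ?_, fun s hs => ?_⟩
  · rw [hv, hv, List.map_append, List.map_cons]
    exact h.1 s.val s.isLt
  · have hs' : s.val ∈ Set.range fun i : {i // i ∈ good_E6.oJ orbs b.1} => chevE6.simple i.1 := by
      rw [← C.A.flip_eq b.1]; exact hs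
    obtain ⟨⟨i, hi⟩, e⟩ := hs'
    have hi' : i.val ∈ orbs.getD b.1.val [] := by
      have := List.mem_map_of_mem (f := Fin.val) hi
      rwa [show (good_E6.oJ orbs b.1).map Fin.val = orbs.getD b.1.val [] from
        C.A.spec.map_word b.1] at this
    obtain ⟨j, hj, e2⟩ := h.2 _ hi'
    rw [← show (good_E6.oJ orbs b.2.2).map Fin.val = orbs.getD b.2.2.val [] from
      C.A.spec.map_word b.2.2, List.mem_map] at hj
    obtain ⟨j', hj', rfl⟩ := hj
    refine (C.A.flip_eq b.2.2).ge ⟨⟨j', hj'⟩, ?_⟩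
    show chevE6.simple j' = _
    rw [hv, ← e]
    exact (Nat.eq_of_beq_eq_true (by simpa using e2)).symm

theorem isPGroup_U1 {p n : ℕ} (hq : q = p ^ n) : IsPGroup p (C.Z.U1.subgroupOf C.Z.G1) :=
  IsPGroup.of_card (n := n * 36) (by
    rw [Nat.card_congr (Subgroup.subgroupOfEquivOfLe C.Z.U1_le).toEquiv, C.card_U1, hq, pow_mul])

theorem not_dvd_index_U1 {p : ℕ} [hp : Fact p.Prime] (hpq : p ∣ q) :
    ¬ p ∣ (C.Z.U1.subgroupOf C.Z.G1).index := by
  intro hdvd
  have hmul := (C.Z.U1.subgroupOf C.Z.G1).card_mul_index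
  rw [Nat.card_congr (Subgroup.subgroupOfEquivOfLe C.Z.U1_le).toEquiv, C.card_U1] at hmul
  have h2 := C.card_group
  rw [← hmul, Nat.mul_left_comm, mul_assoc, mul_assoc, mul_assoc, mul_assoc, mul_assoc] at h2
  have h3 := Nat.eq_of_mul_eq_mul_left (pow_pos C.hq.pos 36) h2
  have km : ∀ k, k ≠ 0 → ¬ p ∣ q ^ k - 1 := fun k hk h => by
    have h2 := Nat.dvd_sub (hpq.trans (dvd_pow_self q hk)) h
    rw [Nat.sub_sub_self (Nat.one_le_pow _ _ C.hq.pos)] at h2
    exact hp.out.not_dvd_one h2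
  have kp : ∀ k, k ≠ 0 → ¬ p ∣ q ^ k + 1 := fun k hk h =>
    hp.out.not_dvd_one ((Nat.dvd_add_right (hpq.trans (dvd_pow_self q hk))).1 h)
  refine hp.out.not_dvd_mul (km 2 (by norm_num)) (hp.out.not_dvd_mul (kp 5 (by norm_num))
    (hp.out.not_dvd_mul (km 6 (by norm_num)) (hp.out.not_dvd_mul (km 8 (by norm_num))
      (hp.out.not_dvd_mul (kp 9 (by norm_num)) (km 12 (by norm_num)))))) ?_
  rw [← h3]
  exact dvd_mul_of_dvd_right hdvd _

/-- The kernel of a stem extension divides the order of the centre of the simply connected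
group, once its part divisible by `p` is known to vanish. -/
theorem ker_card_dvd {p n : ℕ} [Fact p.Prime] (hn : n ≠ 0) (hq : q = p ^ n) [CharP K p]
    {Γ : Type u} [Group Γ] [Finite Γ] {σ : Γ →* C.Z.G1} (hσ : Cfsg.IsStemExtension σ)
    (hD : ∀ z ∈ ⁅(C.Z.U1.subgroupOf C.Z.G1).comap σ, (C.Z.U1.subgroupOf C.Z.G1).comap σ⁆,
      z ∈ σ.ker → z = 1) : Nat.card σ.ker ∣ Nat.gcd 3 (q + 1) := by
  have E : CopExt σ p := cop_of_derived hσ _
    (C.not_dvd_index_U1 (hq ▸ dvd_pow_self p hn)) hD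
  have hr : ∀ a : Fin chevE6.rank, ∀ b : Fin 6,
      (![5, 1, 4, 3, 2, 0] : Fin 6 → Fin 6) a = b → C.Φ.ρ a = b := fun a b h => (C.rho_eq a).trans h
  have P0 := C.paramLong (J := C.oo 0) (a := (1 : Fin 6)) rfl (hr _ _ rfl)
  have P1 := C.paramLong (J := C.oo 1) (a := (3 : Fin 6)) rfl (hr _ _ rfl)
  have P2 := C.paramShort (J := C.oo 2) (a := (2 : Fin 6)) (b := (4 : Fin 6)) rfl (hr _ _ rfl)
    (hr _ _ rfl) (show (2 : Fin 6) ≠ 4 by decide)
  have P3 := C.paramShort (J := C.oo 3) (a := (0 : Fin 6)) (b := (5 : Fin 6)) rfl (hr _ _ rfl)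
    (hr _ _ rfl) (show (0 : Fin 6) ≠ 5 by decide)
  obtain ⟨n13, n31, n20, n40, n02, n52⟩ := orb_neighbours
  have m0 : ∀ i : Fin chevE6.rank, i ∈ good_E6.oJ orbs (C.oo 0) → i = (1 : Fin 6) :=
    fun i hi => List.mem_singleton.1 (show i ∈ [(1 : Fin 6)] from hi)
  have m1 : ∀ i : Fin chevE6.rank, i ∈ good_E6.oJ orbs (C.oo 1) → i = (3 : Fin 6) :=
    fun i hi => List.mem_singleton.1 (show i ∈ [(3 : Fin 6)] from hi)
  have I0 := C.inj_of_neighbour P0 (a := (1 : Fin 6)) (j := (3 : Fin 6))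
    (show (1 : Fin 6) ∈ [(1 : Fin 6)] from List.mem_singleton_self _) n13
    fun i hi hne => absurd (m0 i hi) hne
  have I1 := C.inj_of_neighbour P1 (a := (3 : Fin 6)) (j := (1 : Fin 6))
    (show (3 : Fin 6) ∈ [(3 : Fin 6)] from List.mem_singleton_self _) n31
    fun i hi hne => absurd (m1 i hi) hne
  have I2 := C.inj_of_neighbour P2 (a := (2 : Fin 6)) (j := (0 : Fin 6))
    (show (2 : Fin 6) ∈ [(2 : Fin 6), 4] from List.mem_cons_self ..) n20 fun i hi hne => by
      rcases List.mem_cons.1 (show i ∈ [(2 : Fin 6), 4] from hi) with e | e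
      · exact absurd e hne
      · rw [List.mem_singleton.1 e]; exact n40
  have I3 := C.inj_of_neighbour P3 (a := (0 : Fin 6)) (j := (2 : Fin 6))
    (show (0 : Fin 6) ∈ [(0 : Fin 6), 5] from List.mem_cons_self ..) n02 fun i hi hne => by
      rcases List.mem_cons.1 (show i ∈ [(0 : Fin 6), 5] from hi) with e | e
      · exact absurd e hne
      · rw [List.mem_singleton.1 e]; exact n52
  have hJ : ∀ J : Fin C.Z.nJ, J = C.oo 0 ∨ J = C.oo 1 ∨ J = C.oo 2 ∨ J = C.oo 3 := by
    intro J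
    obtain ⟨j, hj⟩ := J
    have : j < 4 := hj
    rcases (by omega : j = 0 ∨ j = 1 ∨ j = 2 ∨ j = 3) with rfl | rfl | rfl | rfl
    exacts [Or.inl rfl, Or.inr (Or.inl rfl), Or.inr (Or.inr (Or.inl rfl)),
      Or.inr (Or.inr (Or.inr rfl))]
  have hn' : ∀ J : Fin C.Z.nJ, C.Z.nM J ∈ C.Z.LG J := fun J => by
    rcases hJ J with rfl | rfl | rfl | rfl
    exacts [C.A.nM_mem P0, C.A.nM_mem P1, C.A.nM_mem P2, C.A.nM_mem P3]
  have hgen := C.A.torus_le_iSup (htor := C.htor) fun J c hc => by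
    rcases hJ J with rfl | rfl | rfl | rfl
    exacts [C.A.res_mem_LG P0 hc, C.A.res_mem_LG P1 hc, C.A.res_mem_LG P2 hc, C.A.res_mem_LG P3 hc]
  let D := C.Z.splitDataC p (C.isPGroup_U1 hq) hn' hgen (fun J x hx hne => by
    rcases hJ J with rfl | rfl | rfl | rfl
    exacts [C.A.rank_one_rel P0 hx hne, C.A.rank_one_rel P1 hx hne, C.A.rank_one_rel P2 hx hne,
      C.A.rank_one_rel P3 hx hne]) C.braidZ C.isBraidZ
  haveI : Fintype C.kq := Fintype.ofFinite _
  have key := D.ker_card_mul_dvd E (fun J => by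
    rcases hJ J with rfl | rfl | rfl | rfl
    exacts [simplyP_sl2 _ I0 (C.A.rootHom_range P0), simplyP_sl2 _ I1 (C.A.rootHom_range P1),
      simplyP_sl2 _ I2 (C.A.rootHom_range P2), simplyP_sl2 _ I3 (C.A.rootHom_range P3)])
    (fun Q _ f hf hb w hw => ?_) hσ.2.2
  · have eprod : ∏ J, Nat.card (D.H ⊓ D.L J : Subgroup C.Z.G1) =
        (q - 1) * (q - 1) * (q ^ 2 - 1) * (q ^ 2 - 1) := by
      show ∏ J : Fin 4, Nat.card
        (C.Z.H0.subgroupOf C.Z.G1 ⊓ C.Z.LG (C.oo J) : Subgroup C.Z.G1) = _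
      rw [Fin.prod_univ_four, C.card_torus_eq P0 I0, C.card_torus_eq P1 I1, C.card_torus_eq P2 I2,
        C.card_torus_eq P3 I3, C.card_kq_units, units_card C.hK]
    have eH : Nat.card D.H = Nat.card C.Z.H0 :=
      Nat.card_congr (Subgroup.subgroupOfEquivOfLe C.Z.H0_le).toEquiv
    rw [eprod, eH, show (q - 1) * (q - 1) * (q ^ 2 - 1) * (q ^ 2 - 1) =
      (q - 1) ^ 4 * (q + 1) ^ 2 by
        rw [show q ^ 2 - 1 = (q + 1) * (q - 1) by rw [← Nat.sq_sub_sq, one_pow]]; ring,
      ← C.card_torus] at key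
    exact Nat.dvd_of_mul_dvd_mul_right (Nat.card_pos) key
  · refine C.Z.word_eq_one C.A.xNontrivial CoxeterMatrix.F₄ C.hM f ?_ w hw
    have hsq : ∀ i, f i * f i = 1 := hf
    have b := fun t (ht : t ∈ C.braidZ) => hb t ht
    simp only [braidZ, List.mem_cons, List.not_mem_nil, or_false, forall_eq_or_imp,
      forall_eq, List.map_cons, List.map_nil, List.prod_cons, List.prod_nil, mul_one] at b
    obtain ⟨b02, b03, b13, b01, b23, b12⟩ := b
    have h02 := (orderOf_braid (hsq (C.oo 0)) (hsq (C.oo 2))).1 b02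
    have h03 := (orderOf_braid (hsq (C.oo 0)) (hsq (C.oo 3))).1 b03
    have h13 := (orderOf_braid (hsq (C.oo 1)) (hsq (C.oo 3))).1 b13
    have h01 := (orderOf_braid (hsq (C.oo 0)) (hsq (C.oo 1))).2.1 b01
    have h23 := (orderOf_braid (hsq (C.oo 2)) (hsq (C.oo 3))).2.1 b23
    have h12 := (orderOf_braid (hsq (C.oo 1)) (hsq (C.oo 2))).2.2 (by simpa only [mul_assoc] using b12)
    have flip' : ∀ {i j : Fin C.Z.nJ} {m : ℕ}, (f i * f j) ^ m = 1 → (f j * f i) ^ m = 1 := by
      intro i j m h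
      rw [← inv_inj, inv_one, ← inv_pow, _root_.mul_inv_rev,
        inv_eq_of_mul_eq_one_right (hsq i), inv_eq_of_mul_eq_one_right (hsq j), h]
    have hd : ∀ i, (f i * f i) ^ 1 = 1 := fun i => by rw [hsq, one_pow]
    intro i j
    rcases hJ i with rfl | rfl | rfl | rfl <;> rcases hJ j with rfl | rfl | rfl | rfl
    exacts [hd _, h01, h02, h03, flip' h01, hd _, h12, h13, flip' h02, flip' h12, hd _, h23,
      flip' h03, flip' h13, flip' h23, hd _]

end Ctx

end CfsgLib.Chev.E6Tw
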