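import Cfsg.Agent.TwMult.Families
import Cfsg.Agent.TwMult.E6.Data
import Cfsg.Agent.Chev.E6TwOut
import Cfsg.Agent.Chev.WeaklyClosed
import Mathlib.RingTheory.IntegralDomain

/-!
The unipotent subgroup of `²E₆(q)` as a group filtered by root orbits; for `q > 2` its preimage
in a central extension has derived group meeting the kernel trivially.
-/

set_option autoImplicit false
set_option linter.unusedSectionVars false

namespace CfsgLib.Chev.E6Tw

open Cfsg.Lie Tab Mult CfsgLib.TwMult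
open scoped MatrixGroups commutatorElement

variable {K : Type*} [Field K] [Fintype K] {q : ℕ}

namespace Mult

theorem root_spec {s : ℕ} (hs : s < 72) :
    piE s < 72 ∧ piE (piE s) = s ∧ (piE s = s ∨ cq s (piE s) = true) ∧
      (mapAt graphMapE6 s).2.2 = 1 ∧
      (mapAt graphMapE6 s).2.1 * (mapAt graphMapE6 (piE s)).2.1 = 1 ∧
      (piE s = s → (mapAt graphMapE6 s).2.1 = 1) := by
  have h := chkRoot_ok
  rw [allBelow_iff] at h
  have h' := h s hs
  simp only [chkRoot, Bool.and_eq_true, Bool.or_eq_true, Nat.blt_eq, Nat.beq_eq,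
    decide_eq_true_eq, Bool.not_eq_true'] at h'
  obtain ⟨⟨⟨⟨⟨h1, h2⟩, h3⟩, h4⟩, h5⟩, h6⟩ := h'
  refine ⟨h1, h2, h3, h4, h5, fun e => h6.resolve_left fun h7 => ?_⟩
  exact ChevMult.ne_of_beq_false h7 e

theorem place_spec {s : ℕ} (hs : IsPos chevE6 s) :
    fi s < 24 ∧ IsPos chevE6 (piE s) ∧ fi (piE s) = fi s ∧
      (fr (fi s) = s ∨ fr (fi s) = piE s) := by
  have hlt : s < 72 := hs.1
  have h36 : 72 ≤ 2 * s := hs.2
  have h := chkPlace_ok
  rw [allBelow_iff] at h
  have h' := h s hlt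
  simp only [chkPlace, Bool.and_eq_true, Bool.or_eq_true, Nat.blt_eq, Nat.beq_eq, Nat.ble_eq] at h'
  obtain ⟨⟨⟨h1, h2⟩, h3⟩, h4⟩ := h'.resolve_left (by omega)
  exact ⟨h1, ⟨(root_spec hlt).1, show 72 ≤ 2 * piE s by omega⟩, h3, h4⟩

theorem fam_spec {k : ℕ} (hk : k < 24) :
    IsPos chevE6 (fr k) ∧ fr k < 72 ∧ fi (fr k) = k := by
  have h := chkFam_ok
  rw [allBelow_iff] at h
  have h' := h k hk
  simp only [chkFam, Bool.and_eq_true, Nat.blt_eq, Nat.beq_eq, Nat.ble_eq] at h'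
  exact ⟨⟨h'.1.2, show 72 ≤ 2 * fr k by have := h'.1.1; omega⟩, h'.1.2, h'.2⟩

theorem climb {r s : ℕ} (hr : IsPos chevE6 r) (hs : IsPos chevE6 s)
    {c : ℕ × ℤ × ℕ × ℕ} (hc : c ∈ E6Data.tab.commT r s) :
    IsPos chevE6 c.1 ∧ fi r < fi c.1 ∧ fi s < fi c.1 := by
  have h1 : r < 72 := hr.1
  have h2 : s < 72 := hs.1
  have h3 : 72 ≤ 2 * r := hr.2
  have h4 : 72 ≤ 2 * s := hs.2
  have h := allBlock_apply (allBlock_apply chkClimb_ok r (by omega) (by omega)) s (by omega)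
    (by omega)
  simp only [chkClimb, List.all_eq_true, Bool.and_eq_true, Nat.blt_eq, Nat.ble_eq] at h
  obtain ⟨⟨⟨e1, e2⟩, e3⟩, e4⟩ := h c hc
  exact ⟨⟨e1, show 72 ≤ 2 * c.1 by omega⟩, e3, e4⟩

/-- The positive roots from the `k`-th orbit on. -/
def SQ (k : ℕ) : Set ℕ := {s | IsPos chevE6 s ∧ k ≤ fi s}

/-- The positive roots of the `k`-th orbit. -/
def OQ (k : ℕ) : Set ℕ := {s | IsPos chevE6 s ∧ fi s = k}

theorem closed_SQ (k : ℕ) : E6Data.tab.Closed (SQ k) :=
  ⟨fun _ h => h.1, fun _ hr _ hs _ hc => ⟨(climb hr.1 hs.1 hc).1,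
    hr.2.trans (climb hr.1 hs.1 hc).2.1.le⟩⟩

theorem OQ_cases {k s : ℕ} (hs : s ∈ OQ k) : s = fr k ∨ s = piE (fr k) := by
  obtain ⟨hp, rfl⟩ := hs
  rcases (place_spec hp).2.2.2 with h | h
  · exact Or.inl h.symm
  · exact Or.inr (by rw [h, (root_spec hp.1).2.1])

theorem cq_empty {a b : ℕ} (h : cq a b = true) :
    E6Data.tab.commT a b = [] ∧ E6Data.tab.commT b a = [] := by
  simp only [cq, ChevMult.cQ, Bool.and_eq_true, List.isEmpty_iff] at h
  constructor <;> simp [Tab.commT, Tab.rootT, h.1.1, h.1.2]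

theorem closed_OQ (k : ℕ) : E6Data.tab.Closed (OQ k) :=
  ⟨fun _ h => h.1, fun r hr s hs c hc => ⟨(climb hr.1 hs.1 hc).1, by
    exfalso
    rcases eq_or_ne s r with rfl | hne
    · have h := chkSelf_ok
      rw [allBelow_iff] at h
      rw [List.isEmpty_iff.1 (h s hr.1.1)] at hc
      exact absurd hc List.not_mem_nil
    · have hk : fr k < 72 := by
        rcases OQ_cases hr with e | e
        · exact e ▸ hr.1.1
        · have hk24 : k < 24 := hr.2 ▸ (place_spec hr.1).1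
          exact (fam_spec hk24).2.1
      have hc' : cq (fr k) (piE (fr k)) = true := by
        refine (root_spec hk).2.2.1.resolve_left fun e => hne ?_
        rcases OQ_cases hr with e1 | e1 <;> rcases OQ_cases hs with e2 | e2 <;>
          simp [e1, e2, e]
      rcases OQ_cases hr with e1 | e1 <;> rcases OQ_cases hs with e2 | e2
      · exact hne (e2.trans e1.symm)
      · rw [e1, e2, (cq_empty hc').1] at hc; exact absurd hc List.not_mem_nil
      · rw [e1, e2, (cq_empty hc').2] at hc; exact absurd hc List.not_mem_nil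
      · exact hne (e2.trans e1.symm)⟩⟩

end Mult

namespace Ctx

variable (C : Ctx K q)
include C

theorem pi_val (s : Fin chevE6.nroots) : (C.Φ.π s).val = piE s.val := C.hπ s

/-- The map on parameters. -/
noncomputable def ff (C : Ctx K q) (s : ℕ) (t : K) : K :=
  C.φ (((mapAt graphMapE6 s).2.1 : K) * t)

theorem f_eq (s : Fin chevE6.nroots) (t : K) : C.Φ.f s t = C.ff s.val t := by
  rw [C.hf, (root_spec s.isLt).2.2.2.1, pow_one]
  rfl

theorem A_x' {s : ℕ} (hs : s < 72) (t : K) :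
    C.Φ.A (good_E6.full.x s t) = good_E6.full.x (piE s) (C.ff s t) := by
  rw [C.Φ.A_x ⟨s, hs⟩, C.pi_val, C.f_eq]

theorem ff_add (s : ℕ) (a b : K) : C.ff s (a + b) = C.ff s a + C.ff s b := by
  simp [ff, mul_add]

theorem ff_ff {s : ℕ} (hs : s < 72) (t : K) : C.ff (piE s) (C.ff s t) = t := by
  have hh : ∀ x : K, C.φ (C.φ x) = x := fun x => by rw [C.hφ, C.hφ, C.pow_qq]
  simp only [ff]
  rw [map_mul, hh, map_intCast]
  rw [← mul_assoc, ← Int.cast_mul, mul_comm (mapAt graphMapE6 (piE s)).2.1,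
    (root_spec hs).2.2.2.2.1, Int.cast_one, one_mul]

theorem ff_fixed {s : ℕ} (hs : s < 72) (h : piE s = s) (t : K) : C.ff s t = t ^ q := by
  rw [ff, (root_spec hs).2.2.2.2.2 h, Int.cast_one, one_mul, C.hφ]

/-- The parameters of an orbit. -/
def AP (C : Ctx K q) (s : ℕ) : AddSubgroup K where
  carrier := {t | piE s = s → C.ff s t = t}
  add_mem' := fun {a b} ha hb h => by rw [C.ff_add, ha h, hb h]
  zero_mem' := fun _ => by simp [ff]
  neg_mem' := fun {a} ha h => by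
    have e := ha h
    simp only [ff, map_mul, map_neg, mul_neg] at e ⊢
    rw [e]

/-- The element of an orbit of roots. -/
noncomputable def orbEl (C : Ctx K q) (s : ℕ) (t : K) : GL chevE6.Idx K :=
  good_E6.full.x s t * if piE s = s then 1 else good_E6.full.x (piE s) (C.ff s t)

theorem commute_orb {s : ℕ} (hs : s < 72) (t u : K) :
    Commute (good_E6.full.x s t) (good_E6.full.x (piE s) u) := by
  rcases (root_spec hs).2.2.1 with e | h
  · rw [e]; show _ = _; rw [good_E6.full.x_add, good_E6.full.x_add, add_comm]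
  · exact ChevMult.x_cQ good_E6 hs (root_spec hs).1 h t u

theorem orbEl_mem_group (s : ℕ) (t : K) : C.orbEl s t ∈ chevE6.group K := by
  rw [orbEl]
  split_ifs <;> exact mul_mem (good_E6.x_mem_group _ _) (by first | exact one_mem _ | exact good_E6.x_mem_group _ _)

theorem orbEl_fix {s : ℕ} (hs : s < 72) {t : K} (ht : t ∈ C.AP s) :
    C.orbEl s t ∈ C.Φ.Fix := by
  refine (C.Φ.mem_fix).2 ⟨C.orbEl_mem_group s t, ?_⟩
  rw [orbEl]
  split_ifs with h
  · rw [mul_one, C.A_x' hs, h, ht h]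
  · rw [C.Φ.A_mul (good_E6.x_mem_group _ _) (good_E6.x_mem_group _ _), C.A_x' hs,
      C.A_x' (root_spec hs).1, (root_spec hs).2.1, C.ff_ff hs]
    exact (C.commute_orb hs t _).eq.symm

theorem orbEl_add {s : ℕ} (hs : s < 72) (a b : K) :
    C.orbEl s (a + b) = C.orbEl s a * C.orbEl s b := by
  rw [orbEl, orbEl, orbEl]
  split_ifs with h
  · rw [mul_one, mul_one, mul_one, good_E6.full.x_add]
  · rw [C.ff_add, ← good_E6.full.x_add, ← good_E6.full.x_add,
      Commute.mul_mul_mul_comm (C.commute_orb hs b (C.ff s a))]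

theorem orbEl_mem_US {S : Set ℕ} {s : ℕ} (h1 : s ∈ S) (h2 : piE s ∈ S) (t : K) :
    C.orbEl s t ∈ good_E6.US K S := by
  rw [orbEl]
  refine mul_mem (good_E6.x_mem_US h1 t) ?_
  split_ifs
  exacts [one_mem _, good_E6.x_mem_US h2 _]

theorem orbEl_mem_G1 {s : ℕ} (hs : s < 72) {t : K} (ht : t ∈ C.AP s) :
    C.orbEl s t ∈ C.Z.G1 := by
  have hfix := C.orbEl_fix hs ht
  by_cases hp : IsPos chevE6 s
  · refine C.Z.U1_le ⟨hfix, ?_⟩
    rw [good_E6.posUnipotent_eq]
    exact C.orbEl_mem_US hp (place_spec hp).2.1 t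
  · set n := C.W.nT C.w0 with hn
    have hnG : n ∈ C.W.G1 := C.W.nT_mem _
    have h1 : n⁻¹ * C.orbEl s t * n ∈ C.W.U1 := by
      have hf := C.W.fix_conj (inv_mem (C.W.le_fix hnG)) hfix
      rw [inv_inv] at hf
      refine ⟨hf, ?_⟩
      have hm : ∀ r ∈ ({s, piE s} : Set ℕ), ∃ h : r < chevE6.nroots,
          ((C.W.pwT C.w0)⁻¹ ⟨r, h⟩).val ∈ {r | IsPos chevE6 r} := by
        have hneg : ¬ IsPos chevE6 (piE s) := fun hq => hp (by
          have := (place_spec hq).2.1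
          rwa [(root_spec hs).2.1] at this)
        intro r hr
        rcases hr with rfl | rfl
        · exact ⟨hs, by
            rw [inv_eq_of_mul_eq_one_right C.w0_neg.sq]
            exact (C.w0_neg.sign _).2 hp⟩
        · exact ⟨(root_spec hs).1, by
            rw [inv_eq_of_mul_eq_one_right C.w0_neg.sq]
            exact (C.w0_neg.sign _).2 hneg⟩
      have := good_E6.conj_x_act (good_E6.rootAct_inv (C.W.nT_mono C.w0) (C.W.nT_act C.w0)) hm
        (C.orbEl_mem_US (Set.mem_insert s _) (Set.mem_insert_of_mem _ (Set.mem_singleton _)) t)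
      rw [inv_inv] at this
      rw [good_E6.posUnipotent_eq]
      exact this
    have := mul_mem (mul_mem hnG (C.W.U1_le h1)) (inv_mem hnG)
    rwa [show n * (n⁻¹ * C.orbEl s t * n) * n⁻¹ = C.orbEl s t by group] at this

theorem US_empty : good_E6.US K ∅ = ⊥ := by
  rw [eq_bot_iff]
  refine (Subgroup.closure_le _).2 ?_
  rintro g ⟨r, hr, -⟩
  exact absurd hr (Set.notMem_empty r)

theorem eq_one_of_disjoint {A B : Set ℕ} (hA : E6Data.tab.Closed A) (hB : E6Data.tab.Closed B)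
    (h : ∀ s ∈ A, s ∉ B) {u : GL chevE6.Idx K} (ha : u ∈ good_E6.US K A)
    (hb : u ∈ good_E6.US K B) : u = 1 := by
  have := good_E6.US_inf hA hB ha hb
  rwa [show A ∩ B = ∅ from Set.eq_empty_iff_forall_notMem.2 fun s hs => h s hs.1 hs.2,
    C.US_empty, Subgroup.mem_bot] at this

theorem closed_single {r : ℕ} (hr : IsPos chevE6 r) : E6Data.tab.Closed {r} := by
  refine ⟨fun s hs => hs ▸ hr, fun a ha b hb c hc => ?_⟩
  have h := chkSelf_ok
  rw [allBelow_iff] at h
  rw [show a = r from ha, show b = r from hb, List.isEmpty_iff.1 (h r hr.1)] at hc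
  exact absurd hc List.not_mem_nil

theorem pair_inj {r : ℕ} (hr : IsPos chevE6 r) (hne : piE r ≠ r) {a b a' b' : K}
    (h : good_E6.full.x r a * good_E6.full.x (piE r) b =
      good_E6.full.x r a' * good_E6.full.x (piE r) b') : a = a' ∧ b = b' := by
  have hr' := (place_spec hr).2.1
  have e : good_E6.full.x r (-a' + a) = good_E6.full.x (piE r) (b' + -b) := by
    rw [← good_E6.full.x_add, ← good_E6.full.x_add, ← good_E6.full.x_inv, ← good_E6.full.x_inv,
      eq_mul_inv_iff_mul_eq, mul_assoc, h, inv_mul_cancel_left]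
  have h1 : good_E6.full.x r (-a' + a) = 1 :=
    C.eq_one_of_disjoint (C.closed_single hr) (C.closed_single hr')
      (fun s hs hs' => hne (hs'.symm.trans hs))
      (good_E6.x_mem_US (Set.mem_singleton r) _)
      (by rw [e]; exact good_E6.x_mem_US (Set.mem_singleton (piE r)) _)
  have h2 : good_E6.full.x (piE r) (b' + -b) = 1 := by rw [← e]; exact h1
  exact ⟨by linear_combination good_E6.x_eq_one hr.1 h1,
    by linear_combination -(good_E6.x_eq_one hr'.1 h2)⟩

theorem x_orb_mem {k : ℕ} (hk : k < 24) (t : K) :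
    C.orbEl (fr k) t ∈ good_E6.US K (OQ k) := by
  obtain ⟨hp, -, hf⟩ := fam_spec hk
  exact C.orbEl_mem_US (S := OQ k) ⟨hp, hf⟩
    ⟨(place_spec hp).2.1, by rw [(place_spec hp).2.2.1, hf]⟩ t

theorem orbEl_eq_one {k : ℕ} (hk : k < 24) {t : K} (h : C.orbEl (fr k) t = 1) : t = 0 := by
  obtain ⟨hp, -, -⟩ := fam_spec hk
  rw [orbEl] at h
  split_ifs at h with e
  · rw [mul_one] at h
    exact good_E6.x_eq_one hp.1 h
  · exact (C.pair_inj hp e (a' := 0) (b' := 0)
      (by rw [h, good_E6.full.x_zero, good_E6.full.x_zero, one_mul])).1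

theorem exists_coord {k : ℕ} (hk : k < 24) {u : GL chevE6.Idx K}
    (hu : u ∈ good_E6.US K (OQ k)) :
    ∃ a b : K, u = good_E6.full.x (fr k) a * good_E6.full.x (piE (fr k)) b := by
  obtain ⟨hp, hlt, -⟩ := fam_spec hk
  induction hu using Subgroup.closure_induction with
  | mem g hg =>
    obtain ⟨r, hr, v, rfl⟩ := hg
    rcases OQ_cases hr with rfl | rfl
    · exact ⟨v, 0, by rw [good_E6.full.x_zero, mul_one]⟩
    · exact ⟨0, v, by rw [good_E6.full.x_zero, one_mul]⟩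
  | one => exact ⟨0, 0, by rw [good_E6.full.x_zero, good_E6.full.x_zero, one_mul]⟩
  | mul g g' _ _ hg hg' =>
    obtain ⟨a, b, rfl⟩ := hg
    obtain ⟨a', b', rfl⟩ := hg'
    refine ⟨a + a', b + b', ?_⟩
    rw [← good_E6.full.x_add, ← good_E6.full.x_add,
      Commute.mul_mul_mul_comm (C.commute_orb hlt a' b).symm]
  | inv g _ hg =>
    obtain ⟨a, b, rfl⟩ := hg
    refine ⟨-a, -b, ?_⟩
    rw [← good_E6.full.x_inv, ← good_E6.full.x_inv, _root_.mul_inv_rev]
    exact (C.commute_orb hlt a b).inv_inv.eq.symm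

theorem exists_orbEl {k : ℕ} (hk : k < 24) {u : GL chevE6.Idx K}
    (hu : u ∈ good_E6.US K (OQ k)) (hA : C.Φ.A u = u) :
    ∃ t ∈ C.AP (fr k), u = C.orbEl (fr k) t := by
  obtain ⟨hp, hlt, -⟩ := fam_spec hk
  obtain ⟨a, b, rfl⟩ := C.exists_coord hk hu
  rw [C.Φ.A_mul (good_E6.x_mem_group _ _) (good_E6.x_mem_group _ _), C.A_x' hlt,
    C.A_x' (root_spec hlt).1, (root_spec hlt).2.1] at hA
  by_cases e : piE (fr k) = fr k
  · rw [e, good_E6.full.x_add, good_E6.full.x_add] at hA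
    refine ⟨a + b, fun _ => ?_, ?_⟩
    · rw [C.ff_add]
      exact good_E6.x_inj hlt hA
    · rw [orbEl, if_pos e, mul_one, e, good_E6.full.x_add]
  · rw [(C.commute_orb hlt (C.ff (piE (fr k)) b) (C.ff (fr k) a)).symm.eq] at hA
    have h := (C.pair_inj hp e hA).2
    exact ⟨a, fun h' => absurd h' e, by rw [orbEl, if_neg e, h]⟩

theorem SQ_split (k : ℕ) : SQ k = OQ k ∪ SQ (k + 1) := by
  ext s
  simp only [SQ, OQ, Set.mem_setOf_eq, Set.mem_union]
  constructor
  · rintro ⟨h1, h2⟩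
    rcases eq_or_lt_of_le h2 with h | h
    exacts [Or.inl ⟨h1, h.symm⟩, Or.inr ⟨h1, h⟩]
  · rintro (⟨h1, h2⟩ | ⟨h1, h2⟩)
    exacts [⟨h1, h2.ge⟩, ⟨h1, by omega⟩]

theorem A_mem_US {S : Set ℕ} (h : ∀ s ∈ S, s < 72 ∧ piE s ∈ S) {u : GL chevE6.Idx K}
    (hu : u ∈ good_E6.US K S) : C.Φ.A u ∈ good_E6.US K S :=
  C.Φ.A_US (fun s hs => ⟨(h s hs).1, by rw [C.pi_val]; exact (h s hs).2⟩) hu

theorem dec_US {k : ℕ} (hk : k < 24) {u : GL chevE6.Idx K} (hu : u ∈ good_E6.US K (SQ k))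
    (hA : C.Φ.A u = u) : ∃ t ∈ C.AP (fr k), ∃ b ∈ good_E6.US K (SQ (k + 1)),
      u = C.orbEl (fr k) t * b := by
  obtain ⟨y, hy, b, hb, rfl⟩ :=
    good_E6.US_split (closed_OQ k) (closed_SQ (k + 1)) (closed_SQ k) (C.SQ_split k) hu
  have hy' := C.A_mem_US (S := OQ k) (fun s hs => ⟨hs.1.1, (place_spec hs.1).2.1,
    by rw [(place_spec hs.1).2.2.1]; exact hs.2⟩) hy
  have hb' := C.A_mem_US (S := SQ (k + 1)) (fun s hs => ⟨hs.1.1, (place_spec hs.1).2.1,
    by rw [(place_spec hs.1).2.2.1]; exact hs.2⟩) hb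
  rw [C.Φ.A_mul (good_E6.US_le_group _ hy) (good_E6.US_le_group _ hb)] at hA
  have e : (C.Φ.A y)⁻¹ * y = C.Φ.A b * b⁻¹ := by
    rw [inv_mul_eq_iff_eq_mul, ← mul_assoc, hA, mul_inv_cancel_right]
  have h1 : (C.Φ.A y)⁻¹ * y = 1 :=
    C.eq_one_of_disjoint (closed_OQ k) (closed_SQ (k + 1))
      (fun s hs hs' => by have h1 := hs.2; have h2 := hs'.2; omega)
      (mul_mem (inv_mem hy') hy) (by rw [e]; exact mul_mem hb' (inv_mem hb))
  obtain ⟨t, ht, rfl⟩ := C.exists_orbEl hk hy (inv_mul_eq_one.1 h1)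
  exact ⟨t, ht, b, hb, rfl⟩

/-! ### The torus -/

/-- The parameters of a cocharacter. -/
noncomputable def cocv (C : Ctx K q) (m : ℕ) (u : Kˣ) : Fin chevE6.rank → Kˣ :=
  fun i => u ^ (cvec m).getD i.val 0

theorem chi_cocv (m s : ℕ) (u : Kˣ) :
    E6Data.tab.chi (F := K) s (C.cocv m u) = u ^ ev m s := by
  show ∏ i : Fin 6, (u ^ (cvec m).getD i.val 0) ^ E6Data.tab.cart i.val s = _
  simp only [← _root_.zpow_mul, Fin.prod_univ_six, ev, _root_.zpow_add]
  rfl

theorem cocv_mem (m : ℕ) {u : Kˣ} (hu : u ^ q = u) : C.cocv m u ∈ C.A.Cσ := by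
  rw [C.mem_Cσ]
  intro i
  have hc : (cvec m).getD (((![5, 1, 4, 3, 2, 0] : Fin 6 → Fin 6) i).val) 0 =
      (cvec m).getD i.val 0 := by
    fin_cases i <;> simp [cvec]
  show u ^ (cvec m).getD _ 0 = (u ^ (cvec m).getD i.val 0) ^ q
  rw [hc, ← _root_.zpow_natCast, ← _root_.zpow_mul, mul_comm, _root_.zpow_mul,
    _root_.zpow_natCast, hu]

theorem conj_orb {k : ℕ} (hk : k < 24) (c : Fin chevE6.rank → Kˣ) {a : Kˣ}
    (h1 : E6Data.tab.chi (F := K) (fr k) c = a)
    (h2 : E6Data.tab.chi (F := K) (piE (fr k)) c = a) (ha : a ^ q = a) (t : K) :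
    E6Data.tab.hT K c * C.orbEl (fr k) t * (E6Data.tab.hT K c)⁻¹ =
      C.orbEl (fr k) ((a : K) * t) := by
  obtain ⟨-, hlt, -⟩ := fam_spec hk
  have e : C.ff (fr k) ((a : K) * t) = (a : K) * C.ff (fr k) t := by
    simp only [ff]
    rw [mul_left_comm, map_mul, C.hφ (a : K), ← Units.val_pow_eq_pow_val, ha]
  rw [orbEl, orbEl]
  split_ifs
  · rw [mul_one, mul_one, good_E6.full.hT_conj hlt, h1]
  · rw [show ∀ (h x y : GL chevE6.Idx K), h * (x * y) * h⁻¹ = h * x * h⁻¹ * (h * y * h⁻¹) from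
      fun h x y => by group, good_E6.full.hT_conj hlt, good_E6.full.hT_conj (root_spec hlt).1,
      h1, h2, e]

theorem AP_smul {s : ℕ} {a : Kˣ} (ha : a ^ q = a) {t : K} (ht : t ∈ C.AP s) :
    (a : K) * t ∈ C.AP s := fun h => by
  have e := ht h
  simp only [ff] at e ⊢
  rw [mul_left_comm, map_mul, e, C.hφ, ← Units.val_pow_eq_pow_val, ha]

theorem exists_unit (h3 : q ≠ 2) : ∃ u : Kˣ, u ^ q = u ∧ ∀ e : ℤ, e.natAbs = 1 → u ^ e ≠ 1 := by
  classical
  have hc := card_fixed C.hq C.hK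
  have hq3 : 2 < q := by have := C.hq.two_le; omega
  obtain ⟨x, hx0, hx1⟩ : ∃ x : {x : K // x ^ q = x}, x.1 ≠ 0 ∧ x.1 ≠ 1 := by
    by_contra hne
    push Not at hne
    have hinj : Function.Injective fun x : {x : K // x ^ q = x} => decide (x.1 = 0) := by
      intro x y e
      rcases eq_or_ne x.1 0 with hx | hx <;> rcases eq_or_ne y.1 0 with hy | hy
      · exact Subtype.ext (hx.trans hy.symm)
      · simp [hx, hy] at e
      · simp [hx, hy] at e
      · exact Subtype.ext ((hne x hx).trans (hne y hy).symm)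
    have := Nat.card_le_card_of_injective _ hinj
    rw [hc, Nat.card_eq_fintype_card, Fintype.card_bool] at this
    omega
  refine ⟨Units.mk0 x.1 hx0, Units.ext (by simpa using x.2), fun e he h => ?_⟩
  have h' : (Units.mk0 x.1 hx0) = 1 := by
    rcases Int.natAbs_eq e with e' | e' <;> rw [he] at e' <;> simp [e'] at h <;> exact h
  exact hx1 (by simpa using congrArg Units.val h')

theorem exists_trace {t : K} (ht : t ^ q = t) : ∃ w : K, w + w ^ q = t := by
  classical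
  obtain ⟨z, hz⟩ : ∃ z : K, C.φ z ≠ z := by
    by_contra hne
    push Not at hne
    have h1 := card_fixed C.hq C.hK
    rw [Nat.card_congr (Equiv.subtypeUnivEquiv fun x : K => by rw [← C.hφ]; exact hne x),
      Nat.card_eq_fintype_card, C.hK] at h1
    have := C.hq.two_le
    nlinarith
  have hd : C.φ z - z ≠ 0 := sub_ne_zero.2 hz
  have hzz : C.φ (C.φ z) = z := by rw [C.hφ, C.hφ, C.pow_qq]
  refine ⟨t * (C.φ z / (C.φ z - z)), ?_⟩
  rw [← C.hφ, map_mul, C.hφ t, ht, map_div₀, map_sub, hzz,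
    show z - C.φ z = -(C.φ z - z) by ring, div_neg]
  field_simp
  ring

end Ctx

end CfsgLib.Chev.E6Tw
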